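/-
Integral linear conditions on the tails of relations in a central extension.
-/
import Cfsg.Agent.ExtCert.Basic

set_option autoImplicit false

namespace CfsgLib.CentralCert

open CfsgLib.ExtCert

/-- The centre as a commutative group. -/
@[reducible] def centerCG (Γ : Type*) [Group Γ] : CommGroup (Subgroup.center Γ) :=
  { (inferInstance : Group (Subgroup.center Γ)) with
    mul_comm := fun a b => Subtype.ext (Subgroup.mem_center_iff.mp b.2 a) }

attribute [local instance] centerCG

/-- An injective encoding of a group in which products can be computed. -/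
structure Model (G : Type*) [Group G] (β : Type) where
  enc : G → β
  one : β
  mul : β → β → β
  inj : Function.Injective enc
  enc_one : enc 1 = one
  enc_mul : ∀ x y, enc (x * y) = mul (enc x) (enc y)

/-- The code of the product of a word in coded generators. -/
def tab {β : Type} (one : β) (mul : β → β → β) (B : List β) (w : List ℕ) : β :=
  w.foldr (fun i r => mul (B.getD i one) r) one

theorem Model.tab_spec {G : Type*} [Group G] {β : Type} (md : Model G β) {x : ℕ → G} {B : List β}
    (hx : ∀ i, md.enc (x i) = B.getD i md.one) :
    ∀ w, md.enc (ev x w) = tab md.one md.mul B w := by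
  intro w
  induction w with
  | nil => simp [ev, tab, md.enc_one]
  | cons a w ih => rw [ev_cons, md.enc_mul, hx, ih]; rfl

theorem Model.eq_of_tab {G : Type*} [Group G] {β : Type} (md : Model G β) {x : ℕ → G} {B : List β}
    (hx : ∀ i, md.enc (x i) = B.getD i md.one) {v w : List ℕ}
    (h : tab md.one md.mul B v = tab md.one md.mul B w) : ev x v = ev x w :=
  md.inj (by rw [md.tab_spec hx, md.tab_spec hx, h])

/-- An integral form: index and coefficient. -/
abbrev ZForm := List (ℕ × ℤ)

/-- The value of a form. -/
def lval {M : Type*} [AddCommGroup M] (t : ℕ → M) (f : ZForm) : M := (f.map fun e => e.2 • t e.1).sum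

section

variable {M : Type*} [AddCommGroup M] (t : ℕ → M)

@[simp] theorem lval_nil : lval t [] = 0 := by simp [lval]

@[simp] theorem lval_cons (e : ℕ × ℤ) (f : ZForm) : lval t (e :: f) = e.2 • t e.1 + lval t f := by simp [lval]

theorem lval_append (f f' : ZForm) : lval t (f ++ f') = lval t f + lval t f' := by simp [lval]

/-- Multiples of a form. -/
def scale (c : ℤ) (f : ZForm) : ZForm := f.map fun e => (e.1, c * e.2)

theorem lval_scale (c : ℤ) : ∀ f : ZForm, lval t (scale c f) = c • lval t f := by
  intro f
  induction f with
  | nil => simp [scale]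
  | cons e f ih => rw [scale, List.map_cons, lval_cons, ← scale, ih, lval_cons, smul_add, smul_smul]

/-- The opposite of a form. -/
def negF (f : ZForm) : ZForm := scale (-1) f

theorem lval_negF (f : ZForm) : lval t (negF f) = - lval t f := by rw [negF, lval_scale, neg_one_smul]

/-- Substitution of forms into a form. -/
def subst (C : List ZForm) (f : ZForm) : ZForm := f.flatMap fun e => scale e.2 (C.getD e.1 [])

theorem lval_subst (C : List ZForm) : ∀ f : ZForm, lval t (subst C f) = lval (fun k => lval t (C.getD k [])) f := by
  intro f
  induction f with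
  | nil => simp [subst]
  | cons e f ih => rw [subst, List.flatMap_cons, ← subst, lval_append, ih, lval_scale, lval_cons]

/-- The coefficient at an index. -/
def acc (k : ℕ) : ZForm → ℤ
  | [] => 0
  | e :: f => (if e.1 = k then e.2 else 0) + acc k f

theorem lval_eq_sum {n : ℕ} : ∀ f : ZForm, (∀ e ∈ f, e.1 < n) →
    lval t f = ∑ k ∈ Finset.range n, acc k f • t k := by
  intro f
  induction f with
  | nil => simp [acc]
  | cons e f ih =>
    intro h
    rw [lval_cons, ih fun x hx => h x (List.mem_cons_of_mem _ hx)]
    simp only [acc, add_smul, Finset.sum_add_distrib]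
    congr 1
    rw [Finset.sum_eq_single e.1 (fun b _ hb => by rw [if_neg (Ne.symm hb), zero_smul])
      (fun hn => absurd (Finset.mem_range.mpr (h e List.mem_cons_self)) hn), if_pos rfl]

/-- The test for a form to vanish identically. -/
def zeroOK (n : ℕ) (f : ZForm) : Bool :=
  f.all (fun e => Nat.blt e.1 n) && (List.range n).all fun k => decide (acc k f = 0)

theorem lval_zeroOK {n : ℕ} {f : ZForm} (h : zeroOK n f = true) : lval t f = 0 := by
  simp only [zeroOK, Bool.and_eq_true, List.all_eq_true, Nat.blt_eq, decide_eq_true_eq, List.mem_range] at h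
  rw [lval_eq_sum t f h.1]
  exact Finset.sum_eq_zero fun k hk => by rw [h.2 k (Finset.mem_range.mp hk), zero_smul]

theorem lval_filter (n : ℕ) (ht : ∀ k, n ≤ k → t k = 0) : ∀ q : ZForm,
    lval t q = lval t (q.filter fun e => Nat.blt e.1 n) := by
  intro q
  induction q with
  | nil => simp
  | cons e q ih =>
    rcases lt_or_ge e.1 n with he | he
    · simp [he, ih]
    · simp [not_lt.mpr he, ih, ht _ he]

theorem lval_sel (K : List ZForm) (hK : ∀ f ∈ K, lval t f = 0) : ∀ sel : ZForm, lval t (subst K sel) = 0 := by
  intro sel
  rw [lval_subst]
  have h0 : ∀ k, lval t (K.getD k []) = 0 := fun k => by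
    rcases lt_or_ge k K.length with hk | hk
    · rw [List.getD_eq_getElem _ _ hk]; exact hK _ (List.getElem_mem _)
    · rw [List.getD_eq_default _ _ hk]; simp
  induction sel with
  | nil => simp
  | cons e f ih => rw [lval_cons, ih, h0, smul_zero, add_zero]

theorem lval_apply {ι : Type*} (v : ℕ → ι → ℤ) (f : ZForm) (i : ι) : lval v f i = lval (fun k => v k i) f := by
  induction f with
  | nil => simp
  | cons e f ih => simp [ih]

end

/-- The number of occurrences of a letter. -/
def cnt (j : ℕ) : List ℕ → ℤ
  | [] => 0
  | a :: w => (if a = j then 1 else 0) + cnt j w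

theorem cnt_append (j : ℕ) : ∀ v w : List ℕ, cnt j (v ++ w) = cnt j v + cnt j w := by
  intro v
  induction v with
  | nil => simp [cnt]
  | cons a v ih => intro w; simp [cnt, ih, add_assoc]

/-- The exponent vector of a relation. -/
def relv (rels : List (List ℕ × List ℕ)) (k j : ℕ) : ℤ :=
  cnt j (rels.getD k ([], [])).1 - cnt j (rels.getD k ([], [])).2

/-- The form of a product of symbols. -/
def symF (s : Sym) : ZForm := s.map fun e => (e.1, 1)

section

variable {Γ : Type*} [Group Γ]

/-- The additive form of a central element. -/
abbrev addc (z : Subgroup.center Γ) : Additive (Subgroup.center Γ) := Additive.ofMul z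

theorem sval_central (g : ℕ → Γ) (t : ℕ → Subgroup.center Γ) : ∀ s : Sym,
    sval g (fun k => (t k : Γ)) s = ((Additive.toMul (lval (fun k => addc (t k)) (symF s)) : Subgroup.center Γ) : Γ) := by
  intro s
  induction s with
  | nil => simp [sval_nil, symF]
  | cons e s ih =>
    have hs : symF (e :: s) = (e.1, 1) :: symF s := rfl
    rw [sval_cons, ih, hs, lval_cons, one_smul, toMul_add, Subgroup.coe_mul,
      mul_assoc (ev g e.2)⁻¹, ← Subgroup.mem_center_iff.mp (t e.1).2 (ev g e.2), inv_mul_cancel_left]
    rfl

/-- The exponents of a collected word change by those of the relations used. -/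
theorem collect_cnt (rels : List (List ℕ × List ℕ)) (j : ℕ) : ∀ (fuel : ℕ) (w : List ℕ),
    cnt j w = cnt j (collect rels fuel w).1 + lval (fun k => relv rels k j) (symF (collect rels fuel w).2) := by
  intro fuel
  induction fuel with
  | zero => intro w; simp [collect, symF]
  | succ fuel ih =>
    intro w
    rw [collect]
    split
    · simp [symF]
    · next k pre suf _ =>
      split
      · next hk =>
        obtain ⟨-, hw⟩ := hk
        have e := ih (pre ++ (rels.getD k ([], [])).2 ++ suf)
        simp only [symF, List.map_append, lval_append, List.map_cons, List.map_nil, lval_cons, lval_nil,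
          one_smul, add_zero, relv]
        simp only [cnt_append] at e
        simp only [symF, relv] at e
        conv_lhs => rw [hw]
        simp only [cnt_append]
        omega
      · simp [symF]

end

end CfsgLib.CentralCert
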