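/-
A central extension of a group from a cocycle on a subgroup, by summing over the cosets.
-/
import Cfsg.Agent.CentralCert.Basic
import Cfsg.Prelude.Def_KGroupFacts

set_option autoImplicit false

namespace CfsgLib.CentralCert

open CfsgLib.ExtCert
open scoped commutatorElement

universe u

/-- A normalised cocycle with trivial action. -/
structure Cocycle (G : Type*) [Group G] (A : Type*) [AddCommGroup A] where
  F : G → G → A
  one_left : ∀ x, F 1 x = 0
  one_right : ∀ x, F x 1 = 0
  cocycle : ∀ x y z, F x y + F (x * y) z = F y z + F x (y * z)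

/-- The central extension of a cocycle. -/
@[ext] structure Ext {G : Type u} [Group G] {A : Type} [AddCommGroup A] (c : Cocycle G A) : Type u where
  g : G
  a : A

section

variable {G : Type u} [Group G] {A : Type} [AddCommGroup A] {c : Cocycle G A}

instance : Mul (Ext c) := ⟨fun x y => ⟨x.g * y.g, x.a + y.a + c.F x.g y.g⟩⟩
instance : One (Ext c) := ⟨⟨1, 0⟩⟩
instance : Inv (Ext c) := ⟨fun x => ⟨x.g⁻¹, -x.a - c.F x.g⁻¹ x.g⟩⟩

theorem Ext.mul_g (x y : Ext c) : (x * y).g = x.g * y.g := rfl
theorem Ext.mul_a (x y : Ext c) : (x * y).a = x.a + y.a + c.F x.g y.g := rfl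

instance : Group (Ext c) :=
  Group.ofLeftAxioms
    (fun x y z => Ext.ext (mul_assoc _ _ _) (by
      simp only [Ext.mul_a, Ext.mul_g]
      have := c.cocycle x.g y.g z.g
      linear_combination (norm := abel) this))
    (fun x => Ext.ext (one_mul _) (by show 0 + x.a + c.F 1 x.g = x.a; rw [c.one_left]; abel))
    (fun x => Ext.ext (inv_mul_cancel _) (by
      show -x.a - c.F x.g⁻¹ x.g + x.a + c.F x.g⁻¹ x.g = 0
      abel))

instance [Finite G] [Finite A] : Finite (Ext c) :=
  Finite.of_injective (fun x => (x.g, x.a)) fun x y h => Ext.ext (congrArg Prod.fst h) (congrArg Prod.snd h)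

/-- The projection. -/
def Ext.proj (c : Cocycle G A) : Ext c →* G where
  toFun x := x.g
  map_one' := rfl
  map_mul' _ _ := rfl

theorem Ext.central {x : Ext c} (hx : x.g = 1) : x ∈ Subgroup.center (Ext c) := by
  refine Subgroup.mem_center_iff.mpr fun y => Ext.ext ?_ ?_
  · simp [Ext.mul_g, hx]
  · simp only [Ext.mul_a, hx, c.one_left, c.one_right]; abel

/-- A perfect group with enough commuting pairs detected by a cocycle has a stem extension by the coefficients. -/
theorem exists_stem_of_cocycle [Finite G] [Finite A] (hperf : commutator G = ⊤) (W : List (G × G))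
    (hcomm : ∀ p ∈ W, p.1 * p.2 = p.2 * p.1)
    (hgen : AddSubgroup.closure {v | ∃ p ∈ W, v = c.F p.1 p.2 - c.F p.2 p.1} = ⊤) :
    ∃ (Γ : Type u) (_ : Group Γ) (_ : Finite Γ) (σ : Γ →* G),
      Cfsg.IsStemExtension σ ∧ Nonempty (σ.ker ≃* Multiplicative A) := by
  let E' := commutator (Ext c)
  let π := (Ext.proj c).comp E'.subtype
  have hsur : Function.Surjective (Ext.proj c) := fun g => ⟨⟨g, 0⟩, rfl⟩
  have hmapc : E'.map (Ext.proj c) = ⊤ := by
    rw [← hperf]
    show Subgroup.map (Ext.proj c) (⁅(⊤ : Subgroup (Ext c)), (⊤ : Subgroup (Ext c))⁆ : Subgroup (Ext c)) = (⁅(⊤ : Subgroup G), (⊤ : Subgroup G)⁆ : Subgroup G)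
    rw [Subgroup.map_commutator, Subgroup.map_top_of_surjective _ hsur]
  -- the kernel lies in the derived group
  let S : AddSubgroup A :=
    { carrier := {a | (⟨1, a⟩ : Ext c) ∈ E'}
      zero_mem' := one_mem E'
      add_mem' := fun {a b} ha hb => by
        have := mul_mem (show (⟨1, a⟩ : Ext c) ∈ E' from ha) (show (⟨1, b⟩ : Ext c) ∈ E' from hb)
        rwa [show (⟨1, a⟩ : Ext c) * ⟨1, b⟩ = ⟨1, a + b⟩ from Ext.ext (one_mul _)
          (by rw [Ext.mul_a]; simp [c.one_left])] at this
      neg_mem' := fun {a} ha => by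
        have := inv_mem (show (⟨1, a⟩ : Ext c) ∈ E' from ha)
        rwa [show (⟨1, a⟩ : Ext c)⁻¹ = ⟨1, -a⟩ from Ext.ext inv_one
          (by show -a - c.F 1⁻¹ 1 = -a; simp [c.one_left])] at this }
  have hall : ∀ a : A, (⟨1, a⟩ : Ext c) ∈ E' := by
    intro a
    suffices hS : S = ⊤ by exact (hS ▸ AddSubgroup.mem_top a : a ∈ S)
    rw [eq_top_iff, ← hgen, AddSubgroup.closure_le]
    rintro v ⟨p, hp, rfl⟩
    show (⟨1, c.F p.1 p.2 - c.F p.2 p.1⟩ : Ext c) ∈ E'
    have e : ⁅(⟨p.1, 0⟩ : Ext c), (⟨p.2, 0⟩ : Ext c)⁆ = ⟨1, c.F p.1 p.2 - c.F p.2 p.1⟩ := by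
      rw [commutatorElement_def, mul_inv_eq_iff_eq_mul, mul_inv_eq_iff_eq_mul]
      refine Ext.ext ?_ ?_
      · simp only [Ext.mul_g, one_mul]; exact hcomm p hp
      · simp only [Ext.mul_a, Ext.mul_g, one_mul, c.one_left]; abel
    rw [← e]
    exact Subgroup.commutator_mem_commutator (Subgroup.mem_top _) (Subgroup.mem_top _)
  have hsplit : ∀ y : Ext c, ∃ x ∈ E', ∃ a, y = x * ⟨1, a⟩ := by
    intro y
    obtain ⟨x, hx, he⟩ := (Subgroup.mem_map).mp (hmapc ▸ Subgroup.mem_top y.g : y.g ∈ E'.map (Ext.proj c))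
    refine ⟨x, hx, y.a - x.a, Ext.ext ?_ ?_⟩
    · rw [Ext.mul_g, mul_one]; exact he.symm
    · show y.a = x.a + (y.a - x.a) + c.F x.g 1
      rw [c.one_right]; abel
  have htop : E' = ⊤ := by
    rw [eq_top_iff]
    intro y _
    obtain ⟨x, hx, a, rfl⟩ := hsplit y
    exact mul_mem hx (hall a)
  refine ⟨Ext c, inferInstance, inferInstance, Ext.proj c, ⟨hsur, fun x hx => Ext.central hx, ?_⟩, ⟨?_⟩⟩
  · intro x _
    show x ∈ E'
    rw [htop]; exact Subgroup.mem_top x
  · exact
      { toFun := fun x => Multiplicative.ofAdd x.1.a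
        invFun := fun a => ⟨⟨1, Multiplicative.toAdd a⟩, rfl⟩
        left_inv := fun x => Subtype.ext (Ext.ext x.2.symm rfl)
        right_inv := fun a => rfl
        map_mul' := fun x y => by
          show Multiplicative.ofAdd ((x.1 * y.1).a) = _
          rw [Ext.mul_a, show x.1.g = 1 from x.2, c.one_left, add_zero]
          rfl }

end

/-- The data of a cocycle on a subgroup with the cosets and the witnesses. -/
structure Lower where
  W : List (List ℕ)
  Binv : List (List ℕ)
  gens : List ℕ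
  tree : List (ℕ × ℕ)
  M : List (List ℕ)
  F : List (List ℕ)
  z : List ℕ
  T : List (ℕ × ℕ)
  wit : List ((List ℕ × List (List (ℕ × ℕ))) × (List ℕ × List (List (ℕ × ℕ))))

/-- Tables of codes, stored in blocks of 64. -/
structure Tabs where
  E : List (List ℕ)
  TT : List (List ℕ)
  TI : List (List ℕ)
  KK : List (List ℕ)

/-- An entry of a table in blocks. -/
def look (L : List (List ℕ)) (i : ℕ) : ℕ := (L.getD (i / 64) []).getD (i % 64) 0

/-- An entry of a square table: packed rows in blocks of eight. -/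
def cell (q : ℕ) (L : List (List ℕ)) (a b : ℕ) : ℕ := (L.getD (a / 8) []).getD (a % 8) 0 / q ^ b % q

/-- An entry of a table of pairs in blocks. -/
def lookP (L : List (List (ℕ × ℕ))) (i : ℕ) : ℕ × ℕ := (L.getD (i / 64) []).getD (i % 64) (0, 0)

/-- Distinctness of the first entries of a table, tested within residue classes. -/
def distinctOK (L : List (List ℕ)) (n : ℕ) : Bool :=
  ((List.range (n / 64 + 1)).all fun B => Nat.ble (min 64 (n - 64 * B)) (L.getD B []).length) &&
  (List.range 61).all fun r => freshOK []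
    ((List.range (n / 64 + 1)).flatMap fun B => (L.getD B []).filter fun x => Nat.beq (x % 61) r)

theorem inj_of_distinctOK {L : List (List ℕ)} {n : ℕ} (h : distinctOK L n = true) {i j : ℕ} (hi : i < n)
    (hj : j < n) (hij : look L i = look L j) : i = j := by
  simp only [distinctOK, Bool.and_eq_true, List.all_eq_true, List.mem_range, Nat.ble_eq] at h
  obtain ⟨hlen, hfresh⟩ := h
  have h' := (nodup_of_freshOK _ _ (hfresh (look L i % 61) (Nat.mod_lt _ (by norm_num)))).1
  rw [List.nodup_flatMap] at h'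
  obtain ⟨hin, hdis⟩ := h'
  have hpos : ∀ k < n, k / 64 < n / 64 + 1 ∧ ∃ hk : k % 64 < (L.getD (k / 64) []).length,
      (L.getD (k / 64) [])[k % 64] = look L k := fun k hk => by
    have hB : k / 64 < n / 64 + 1 := Nat.lt_succ_of_le (Nat.div_le_div_right hk.le)
    have h1 := hlen _ hB
    have h2 : k % 64 < (L.getD (k / 64) []).length := by omega
    exact ⟨hB, h2, (List.getD_eq_getElem _ _ h2).symm⟩
  obtain ⟨hBi, hoi, ei⟩ := hpos i hi
  obtain ⟨hBj, hoj, ej⟩ := hpos j hj
  have hmi : look L i ∈ (L.getD (i / 64) []).filter fun x => Nat.beq (x % 61) (look L i % 61) := by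
    rw [List.mem_filter]; exact ⟨ei ▸ List.getElem_mem hoi, by simp⟩
  have hmj : look L i ∈ (L.getD (j / 64) []).filter fun x => Nat.beq (x % 61) (look L i % 61) := by
    rw [List.mem_filter, hij]; exact ⟨ej ▸ List.getElem_mem hoj, by simp⟩
  have hblock : i / 64 = j / 64 := by
    rw [List.pairwise_iff_getElem] at hdis
    rcases lt_trichotomy (i / 64) (j / 64) with hlt | heq | hgt
    · have := hdis (i / 64) (j / 64) (by simpa using hBi) (by simpa using hBj) hlt
      simp only [List.getElem_range] at this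
      exact absurd hmj (this hmi)
    · exact heq
    · have := hdis (j / 64) (i / 64) (by simpa using hBj) (by simpa using hBi) hgt
      simp only [List.getElem_range] at this
      exact absurd hmi (this hmj)
  by_contra hne
  have hoff : i % 64 ≠ j % 64 := by omega
  have hnd := hin (i / 64) (List.mem_range.mpr hBi)
  rcases lt_or_gt_of_ne hoff with hlt | hlt
  all_goals
    have hsub : [look L i, look L i].Sublist (L.getD (i / 64) []) := ?_
    have := (hsub.filter fun x => Nat.beq (x % 61) (look L i % 61)).nodup hnd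
    simp at this
  · have hoj' : j % 64 < (L.getD (i / 64) []).length := by rw [hblock]; exact hoj
    have ej' : (L.getD (i / 64) [])[j % 64] = look L i := by rw [hij, ← ej]; simp only [hblock]
    conv => lhs; rw [show [look L i, look L i] = [(L.getD (i / 64) [])[i % 64], (L.getD (i / 64) [])[j % 64]] by rw [ei, ej']]
    exact List.map_getElem_sublist (l := L.getD (i / 64) []) (is := [⟨i % 64, hoi⟩, ⟨j % 64, hoj'⟩]) (by simp [hlt])
  · have hoj' : j % 64 < (L.getD (i / 64) []).length := by rw [hblock]; exact hoj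
    have ej' : (L.getD (i / 64) [])[j % 64] = look L i := by rw [hij, ← ej]; simp only [hblock]
    conv => lhs; rw [show [look L i, look L i] = [(L.getD (i / 64) [])[j % 64], (L.getD (i / 64) [])[i % 64]] by rw [ei, ej']]
    exact List.map_getElem_sublist (l := L.getD (i / 64) []) (is := [⟨j % 64, hoj'⟩, ⟨i % 64, hoi⟩]) (by simp [hlt])

namespace Lower

variable (D : Lower)

/-- The product table. -/
def mS (a b : ℕ) : ℕ := cell 256 D.M a b

/-- The cocycle table. -/
def fS {A : Type} (dec : ℕ → A) (a b : ℕ) : A := dec (cell 64 D.F a b)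

variable (one : ℕ) (mul : ℕ → ℕ → ℕ) (B : List ℕ) (K : Tabs)

/-- The tables hold the codes of the listed words and of the coset tree. -/
def tabsOK : Bool :=
  ((List.range D.W.length).all fun a => Nat.beq (look K.E a) (tab one mul B (D.W.getD a []))) &&
  ((List.range D.T.length).zip D.T).all fun e =>
    (Nat.beq (look K.TT e.1) one && Nat.beq (look K.TI e.1) one) ||
      (Nat.blt e.2.1 e.1 &&
        Nat.beq (look K.TT e.1) (mul (look K.TT e.2.1) (tab one mul B [e.2.2])) &&
        Nat.beq (look K.TI e.1) (mul (tab one mul B (D.Binv.getD e.2.2 [])) (look K.TI e.2.1)))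

/-- The product table is that of a subgroup containing the listed elements. -/
def grpOK : Bool :=
  Nat.blt 0 D.W.length && Nat.beq (look K.E 0) one && distinctOK K.E D.W.length &&
  (D.gens.all fun g => Nat.blt g D.W.length) &&
  ((List.range D.W.length).all fun a => Nat.beq (D.mS a 0) a && Nat.beq (D.mS 0 a) a &&
    (List.range D.W.length).all fun b => Nat.blt (D.mS a b) D.W.length) &&
  ((List.range D.W.length).all fun a => D.gens.all fun g =>
    Nat.beq (look K.E (D.mS a g)) (mul (look K.E a) (look K.E g))) &&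
  (List.range D.W.length).all fun y => Nat.beq y 0 ||
    (Nat.blt (D.tree.getD y (0, 0)).1 y && D.gens.contains (D.tree.getD y (0, 0)).2 &&
      Nat.beq (D.mS (D.tree.getD y (0, 0)).1 (D.tree.getD y (0, 0)).2) y)

/-- Light's test for the product and the cocycle. -/
def lightOK {A : Type} [AddCommGroup A] [DecidableEq A] (dec : ℕ → A) : Bool :=
  (List.range D.W.length).all fun a => decide (D.fS dec a 0 = 0) && decide (D.fS dec 0 a = 0) &&
    (List.range D.W.length).all fun b => D.gens.all fun g =>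
      let ag := D.mS a g
      let gb := D.mS g b
      Nat.beq (D.mS ag b) (D.mS a gb) &&
        decide (D.fS dec a g + D.fS dec ag b = D.fS dec g b + D.fS dec a gb)

/-- The cosets are distinct. -/
def cosOK (f : ℕ → ℕ := fun _ => 0) : Bool :=
  forceN (tab one mul B D.z) fun Z =>
    (D.gens.all fun g => Nat.beq (mul (look K.E g) Z) (mul Z (look K.E g))) &&
    ((List.range D.T.length).all fun i => Nat.beq (mul (look K.TI i) (look K.TT i)) one &&
      Nat.beq (look K.KK i) (mul (mul (look K.TI i) Z) (look K.TT i) + f (look K.TT i))) &&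
    distinctOK K.KK D.T.length

/-- The recorded action of an element on the cosets. -/
def actOK (p : List ℕ × List (List (ℕ × ℕ))) : Bool :=
  forceN (tab one mul B p.1) fun X =>
    (List.range D.T.length).all fun i => Nat.blt (lookP p.2 i).1 D.T.length &&
      Nat.blt (lookP p.2 i).2 D.W.length &&
      Nat.beq (mul (look K.TT i) X) (mul (look K.E (lookP p.2 i).2) (look K.TT (lookP p.2 i).1))

/-- The value of the summed cocycle at a recorded pair. -/
def cor {A : Type} [AddCommGroup A] (dec : ℕ → A) (p q : List (List (ℕ × ℕ))) : A :=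
  ((List.range D.T.length).map fun i => D.fS dec (lookP p i).2 (lookP q (lookP p i).1).2).sum

/-- The witnesses are commuting pairs with recorded actions. -/
def witOK : Bool := D.wit.all fun w => D.actOK one mul B K w.1 && D.actOK one mul B K w.2 &&
  Nat.beq (mul (tab one mul B w.1.1) (tab one mul B w.2.1)) (mul (tab one mul B w.2.1) (tab one mul B w.1.1))

/-- The values at the witnesses. -/
def values {A : Type} [AddCommGroup A] (dec : ℕ → A) : List A :=
  D.wit.map fun w => D.cor dec w.1.2 w.2.2 - D.cor dec w.2.2 w.1.2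

end Lower

/-- A cocycle on the group with witnesses for the values. -/
theorem Lower.exists_cocycle {G : Type u} [Group G] [Finite G] (md : Model G ℕ)
    (D : Lower) (K : Tabs) {x : ℕ → G} {B : List ℕ} (hx : ∀ i, md.enc (x i) = B.getD i md.one)
    {A : Type} [AddCommGroup A] [DecidableEq A] [Finite A] (dec : ℕ → A)
    (h0 : D.tabsOK md.one md.mul B K = true)
    (h1 : D.grpOK md.one md.mul K = true) (h2 : D.lightOK dec = true)
    {f : ℕ → ℕ} (h3 : D.cosOK md.one md.mul B K f = true) (h4 : D.witOK md.one md.mul B K = true)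
    (hcard : D.T.length * D.W.length = Nat.card G)
    (hgen : AddSubgroup.closure {v | v ∈ D.values dec} = ⊤)
    (hf : ∀ g ∈ D.gens, ∀ y : G, f (md.mul (look K.E g) (md.enc y)) = f (md.enc y) := by exact fun _ _ _ => rfl) :
    ∃ (c : Cocycle G A) (W : List (G × G)), (∀ p ∈ W, p.1 * p.2 = p.2 * p.1) ∧
      AddSubgroup.closure {v | ∃ p ∈ W, v = c.F p.1 p.2 - c.F p.2 p.1} = ⊤ := by
  classical
  simp only [Lower.tabsOK, Bool.and_eq_true, Bool.or_eq_true, List.all_eq_true, List.mem_range, Nat.beq_eq, Nat.blt_eq] at h0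
  obtain ⟨hEt, hTree⟩ := h0
  simp only [Lower.grpOK, Bool.and_eq_true, decide_eq_true_eq, List.all_eq_true, List.mem_range, Nat.blt_eq,
    Nat.beq_eq, Bool.or_eq_true, List.contains_iff_mem] at h1
  obtain ⟨⟨⟨⟨⟨⟨hpos, hE0⟩, hnd⟩, hgl⟩, hrow⟩, hstep⟩, htree⟩ := h1
  simp only [Lower.lightOK, Bool.and_eq_true, decide_eq_true_eq, List.all_eq_true, List.mem_range, Nat.beq_eq] at h2
  set N := D.W.length
  set el : ℕ → G := fun a => ev x (D.W.getD a []) with hel
  have henc : ∀ a < N, md.enc (el a) = look K.E a := fun a ha => by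
    rw [hel, md.tab_spec hx, ← hEt a ha]
  have hel0 : el 0 = 1 := md.inj (by rw [henc 0 hpos, md.enc_one, hE0])
  have helinj : ∀ a < N, ∀ b < N, el a = el b → a = b := fun a ha b hb h => by
    have h' := congrArg md.enc h
    rw [henc a ha, henc b hb] at h'
    exact inj_of_distinctOK hnd ha hb h'
  -- induction along the spanning tree
  have hind : ∀ P : ℕ → Prop, P 0 →
      (∀ y g, y < N → g ∈ D.gens → P y → P (D.mS y g)) → ∀ y < N, P y := by
    intro P h0 hs y
    induction y using Nat.strong_induction_on with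
    | _ y ih =>
      intro hy
      rcases htree y hy with h | h
      · exact h ▸ h0
      · obtain ⟨⟨hlt, hg⟩, he⟩ := h
        rw [← he]
        exact hs _ _ (hlt.trans hy) hg (ih _ hlt (hlt.trans hy))
  have hclose : ∀ a < N, ∀ b < N, D.mS a b < N := fun a ha b hb => (hrow a ha).2 b hb
  have hassoc : ∀ b < N, ∀ a < N, ∀ c < N, D.mS (D.mS a b) c = D.mS a (D.mS b c) ∧
      D.fS dec a b + D.fS dec (D.mS a b) c = D.fS dec b c + D.fS dec a (D.mS b c) := by
    refine hind _ ?_ ?_
    · intro a ha c hc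
      rw [(hrow a ha).1.1, (hrow c hc).1.2, (h2 a ha).1.1, (h2 c hc).1.2]
      exact ⟨rfl, by abel⟩
    · intro y g hy hg ih a ha c hc
      have hgN := hgl g hg
      obtain ⟨e1, e2⟩ := (h2 y hy).2 c hc g hg
      obtain ⟨e3, e4⟩ := (h2 (D.mS a y) (hclose a ha y hy)).2 c hc g hg
      obtain ⟨e5, e6⟩ := ih a ha g hgN
      obtain ⟨e7, e8⟩ := ih a ha (D.mS g c) (hclose g hgN c hc)
      refine ⟨by rw [← e5, e3, e7, e1], ?_⟩
      rw [← e1] at e8
      rw [e5] at e4
      linear_combination (norm := abel) e4 + e8 - e2 - e6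
  have hhom : ∀ b < N, ∀ a < N, el (D.mS a b) = el a * el b := by
    refine hind _ ?_ ?_
    · intro a ha; rw [(hrow a ha).1.1, hel0, mul_one]
    · intro y g hy hg ih a ha
      have hgN := hgl g hg
      have hstep' : ∀ q < N, el (D.mS q g) = el q * el g := fun q hq =>
        md.inj (by rw [henc _ (hclose q hq g hgN), md.enc_mul, henc q hq, henc g hgN]; exact hstep q hq g hg)
      rw [hstep' y hy, ← mul_assoc, ← ih a ha, ← hstep' _ (hclose a ha y hy), ← (hassoc y hy a ha g hgN).1]
  -- the cosets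
  simp only [Lower.cosOK, forceN_eq, Bool.and_eq_true, List.all_eq_true, List.mem_range, Nat.beq_eq] at h3
  obtain ⟨⟨hzg, hinvkey⟩, hkey⟩ := h3
  set zz : G := ev x D.z
  have hzS : ∀ a < N, el a * zz = zz * el a := by
    refine hind _ (by rw [hel0]; simp) ?_
    intro y g hy hg ih
    rw [hhom g (hgl g hg) y hy]
    have : el g * zz = zz * el g := md.inj (by rw [md.enc_mul, md.enc_mul, henc g (hgl g hg), md.tab_spec hx]; exact hzg g hg)
    rw [mul_assoc, this, ← mul_assoc, ih, mul_assoc]
  have hex : ∀ i, i < D.T.length → ∃ u v : G, md.enc u = look K.TT i ∧ md.enc v = look K.TI i := by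
    intro i
    induction i using Nat.strong_induction_on with
    | _ i ih =>
      intro hi
      have hi' : i < ((List.range D.T.length).zip D.T).length := by simp [hi]
      have hmem : (i, D.T[i]) ∈ (List.range D.T.length).zip D.T := by
        have := List.getElem_mem hi'
        rwa [List.getElem_zip, List.getElem_range] at this
      rcases hTree _ hmem with ⟨e1, e2⟩ | ⟨⟨hlt, e1⟩, e2⟩
      · exact ⟨1, 1, by rw [md.enc_one]; exact e1.symm, by rw [md.enc_one]; exact e2.symm⟩
      · obtain ⟨u, v, hu, hv⟩ := ih _ hlt (hlt.trans hi)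
        exact ⟨u * ev x [(D.T[i]).2], ev x (D.Binv.getD (D.T[i]).2 []) * v,
          by rw [md.enc_mul, hu, md.tab_spec hx]; exact e1.symm,
          by rw [md.enc_mul, hv, md.tab_spec hx]; exact e2.symm⟩
  choose! tt ti htt hti using hex
  have htinv : ∀ i < D.T.length, ti i = (tt i)⁻¹ := fun i hi => by
    refine eq_inv_of_mul_eq_one_left (md.inj ?_)
    rw [md.enc_mul, md.enc_one, htt i hi, hti i hi]; exact (hinvkey i hi).1
  have hTinj : ∀ i < D.T.length, ∀ j < D.T.length, ∀ a < N, el a * tt i = tt j → i = j := by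
    intro i hi j hj a ha h
    have hkk : look K.KK i = look K.KK j := by
      rw [(hinvkey i hi).2, (hinvkey j hj).2, ← htt i hi, ← htt j hj, ← hti i hi, ← hti j hj]
      have hfa : ∀ b < N, ∀ y : G, f (md.enc (el b * y)) = f (md.enc y) := by
        refine hind _ (fun y => by rw [hel0, one_mul]) ?_
        intro y g hy hg ih w
        rw [hhom g (hgl g hg) y hy, mul_assoc, ih, md.enc_mul, henc g (hgl g hg), hf g hg]
      have hfe : f (md.enc (tt i)) = f (md.enc (tt j)) := by rw [← h, hfa a ha]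
      rw [← hfe]
      refine congrArg (· + f (md.enc (tt i))) ?_
      simp only [← md.tab_spec hx, ← md.enc_mul]
      rw [htinv i hi, htinv j hj]
      refine congrArg md.enc ?_
      show (tt i)⁻¹ * zz * tt i = (tt j)⁻¹ * zz * tt j
      rw [← h]
      calc (tt i)⁻¹ * zz * tt i = (tt i)⁻¹ * ((el a)⁻¹ * (el a * zz)) * tt i := by group
        _ = (tt i)⁻¹ * ((el a)⁻¹ * (zz * el a)) * tt i := by rw [hzS a ha]
        _ = _ := by group
    exact inj_of_distinctOK hkey hi hj hkk
  -- inverses inside the table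
  have hlinv : ∀ a < N, ∃ b < N, el b = (el a)⁻¹ := by
    intro a ha
    have hinjm : Function.Injective (fun b : Fin N => (⟨D.mS a b.1, hclose a ha b.1 b.2⟩ : Fin N)) := by
      intro b b' h
      have h' := congrArg el (congrArg Fin.val h)
      simp only [hhom _ b.2 a ha, hhom _ b'.2 a ha] at h'
      exact Fin.ext (helinj _ b.2 _ b'.2 (mul_left_cancel h'))
    obtain ⟨b, hb⟩ := Finite.surjective_of_injective hinjm ⟨0, hpos⟩
    refine ⟨b.1, b.2, eq_inv_of_mul_eq_one_right ?_⟩
    rw [← hhom _ b.2 a ha, show D.mS a b.1 = 0 from congrArg Fin.val hb, hel0]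
  let φ : Fin D.T.length × Fin N → G := fun p => el p.2.1 * tt p.1.1
  have hφ : Function.Bijective φ := by
    refine (Nat.bijective_iff_injective_and_card φ).mpr ⟨?_, by simp [hcard]⟩
    rintro ⟨i, a⟩ ⟨j, b⟩ h
    simp only [φ] at h
    obtain ⟨b', hb', hb''⟩ := hlinv b.1 b.2
    have hij : i = j := Fin.ext (hTinj i.1 i.2 j.1 j.2 (D.mS b' a.1) (hclose b' hb' _ a.2)
      (by rw [hhom _ a.2 b' hb', hb'', mul_assoc, h, inv_mul_cancel_left]))
    subst hij
    exact Prod.ext rfl (Fin.ext (helinj _ a.2 _ b.2 (mul_right_cancel h)))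
  let φe := Equiv.ofBijective φ hφ
  have hφs : ∀ y, el (φe.symm y).2.1 * tt (φe.symm y).1.1 = y := fun y => φe.apply_symm_apply y
  let π : G → Fin D.T.length → Fin D.T.length := fun y i => (φe.symm (tt i.1 * y)).1
  let h : G → Fin D.T.length → ℕ := fun y i => (φe.symm (tt i.1 * y)).2.1
  have hdec : ∀ y (i j : Fin D.T.length) (a : ℕ), a < N → tt i.1 * y = el a * tt j.1 → π y i = j ∧ h y i = a := by
    intro y i j a ha he
    have : φe.symm (tt i.1 * y) = (j, ⟨a, ha⟩) := by
      rw [Equiv.symm_apply_eq]; exact he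
    simp [π, h, this]
  have hspec : ∀ y i, tt i.1 * y = el (h y i) * tt (π y i).1 := fun y i => (hφs _).symm
  have hhN : ∀ y i, h y i < N := fun y i => (φe.symm (tt i.1 * y)).2.2
  have hπh : ∀ y y' i, π (y * y') i = π y' (π y i) ∧ h (y * y') i = D.mS (h y i) (h y' (π y i)) := fun y y' i =>
    hdec _ _ _ _ (hclose _ (hhN y i) _ (hhN y' _)) (by
      rw [hhom _ (hhN y' _) _ (hhN y i), mul_assoc, ← hspec, ← mul_assoc, ← mul_assoc, ← hspec])
  have hone : ∀ i, π 1 i = i ∧ h 1 i = 0 := fun i => hdec _ _ _ _ hpos (by rw [hel0]; simp)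
  have hπb : ∀ y, Function.Bijective (π y) := fun y => by
    refine Finite.injective_iff_bijective.mp fun i i' hii => ?_
    have := congrArg (π y⁻¹) hii
    rwa [← (hπh y y⁻¹ i).1, ← (hπh y y⁻¹ i').1, mul_inv_cancel, (hone i).1, (hone i').1] at this
  let c : Cocycle G A :=
    { F := fun y y' => ∑ i, D.fS dec (h y i) (h y' (π y i))
      one_left := fun y => Finset.sum_eq_zero fun i _ => by
        rw [(hone i).2]; exact (h2 _ (hhN y _)).1.2
      one_right := fun y => Finset.sum_eq_zero fun i _ => by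
        rw [(hone _).2]; exact (h2 _ (hhN y _)).1.1
      cocycle := fun y y' y'' => by
        have hre : ∑ i, D.fS dec (h y' i) (h y'' (π y' i)) =
            ∑ i, D.fS dec (h y' (π y i)) (h y'' (π y' (π y i))) :=
          ((hπb y).sum_comp fun i => D.fS dec (h y' i) (h y'' (π y' i))).symm
        rw [hre, ← Finset.sum_add_distrib, ← Finset.sum_add_distrib]
        refine Finset.sum_congr rfl fun i _ => ?_
        rw [(hπh y y' i).2, (hπh y y' i).1, (hπh y' y'' (π y i)).2]
        exact (hassoc _ (hhN y' _) _ (hhN y i) _ (hhN y'' _)).2 }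
  simp only [Lower.witOK, Bool.and_eq_true, Nat.beq_eq, List.all_eq_true] at h4
  have hval : ∀ p q : List ℕ × List (List (ℕ × ℕ)), D.actOK md.one md.mul B K p = true → D.actOK md.one md.mul B K q = true →
      c.F (ev x p.1) (ev x q.1) = D.cor dec p.2 q.2 := by
    intro p q hp hq
    have key : ∀ p : List ℕ × List (List (ℕ × ℕ)), D.actOK md.one md.mul B K p = true → ∀ i : Fin D.T.length,
        (π (ev x p.1) i).1 = (lookP p.2 i.1).1 ∧ h (ev x p.1) i = (lookP p.2 i.1).2 := by
      intro p hp i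
      simp only [Lower.actOK, forceN_eq, Bool.and_eq_true, List.all_eq_true, List.mem_range, Nat.blt_eq, Nat.beq_eq] at hp
      obtain ⟨⟨hj, ha⟩, he⟩ := hp i.1 i.2
      obtain ⟨r1, r2⟩ := hdec (ev x p.1) i ⟨_, hj⟩ _ ha (md.inj (by
        rw [md.enc_mul, md.enc_mul, md.tab_spec hx, henc _ ha, htt _ i.2, htt _ hj]
        exact he))
      exact ⟨congrArg Fin.val r1, r2⟩
    show ∑ i, D.fS dec (h (ev x p.1) i) (h (ev x q.1) (π (ev x p.1) i)) = _
    rw [Lower.cor, ← List.sum_toFinset _ List.nodup_range, List.toFinset_range,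
      ← Fin.sum_univ_eq_sum_range fun i => D.fS dec (lookP p.2 i).2 (lookP q.2 (lookP p.2 i).1).2]
    refine Finset.sum_congr rfl fun i _ => ?_
    rw [(key p hp i).2, (key q hq _).2, (key p hp i).1]
  refine ⟨c, D.wit.map fun w => (ev x w.1.1, ev x w.2.1), ?_, ?_⟩
  · intro p hp
    obtain ⟨w, hw, rfl⟩ := List.mem_map.mp hp
    exact md.inj (by simp only [md.enc_mul, md.tab_spec hx]; exact (h4 w hw).2)
  · rw [eq_top_iff, ← hgen, AddSubgroup.closure_le]
    intro v hv
    obtain ⟨w, hw, rfl⟩ := List.mem_map.mp (show v ∈ D.values dec from hv)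
    refine AddSubgroup.subset_closure ⟨_, List.mem_map.mpr ⟨w, hw, rfl⟩, ?_⟩
    rw [hval _ _ (h4 w hw).1.1 (h4 w hw).1.2, hval _ _ (h4 w hw).1.2 (h4 w hw).1.1]

/-- Existence of a stem extension from a cocycle on a subgroup. -/
theorem Lower.exists_stem {G : Type u} [Group G] [Finite G] (md : Model G ℕ)
    (D : Lower) (K : Tabs) {x : ℕ → G} {B : List ℕ} (hx : ∀ i, md.enc (x i) = B.getD i md.one)
    {A : Type} [AddCommGroup A] [DecidableEq A] [Finite A] (dec : ℕ → A)
    (h0 : D.tabsOK md.one md.mul B K = true)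
    (h1 : D.grpOK md.one md.mul K = true) (h2 : D.lightOK dec = true)
    {f : ℕ → ℕ} (h3 : D.cosOK md.one md.mul B K f = true) (h4 : D.witOK md.one md.mul B K = true)
    (hcard : D.T.length * D.W.length = Nat.card G) (hperf : _root_.commutator G = ⊤)
    (hgen : AddSubgroup.closure {v | v ∈ D.values dec} = ⊤)
    (hf : ∀ g ∈ D.gens, ∀ y : G, f (md.mul (look K.E g) (md.enc y)) = f (md.enc y) := by exact fun _ _ _ => rfl) :
    ∃ (Γ : Type u) (_ : Group Γ) (_ : Finite Γ) (σ : Γ →* G),
      Cfsg.IsStemExtension σ ∧ Nonempty (σ.ker ≃* Multiplicative A) := by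
  obtain ⟨c, W, hW, hgenW⟩ := D.exists_cocycle md K hx dec h0 h1 h2 h3 h4 hcard hgen hf
  exact exists_stem_of_cocycle hperf W hW hgenW

/-- Two cocycles with values of coprime orders together give a stem extension. -/
theorem exists_stem_prod {G : Type u} [Group G] [Finite G] {A A' : Type} [AddCommGroup A] [AddCommGroup A']
    [Finite A] [Finite A'] {a b : ℕ} (hab : a.Coprime b) (ha : ∀ v : A, a • v = 0) (hb : ∀ v : A', b • v = 0)
    (hperf : _root_.commutator G = ⊤) (c : Cocycle G A) (c' : Cocycle G A') (W W' : List (G × G))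
    (hW : ∀ p ∈ W, p.1 * p.2 = p.2 * p.1) (hW' : ∀ p ∈ W', p.1 * p.2 = p.2 * p.1)
    (hgen : AddSubgroup.closure {v | ∃ p ∈ W, v = c.F p.1 p.2 - c.F p.2 p.1} = ⊤)
    (hgen' : AddSubgroup.closure {v | ∃ p ∈ W', v = c'.F p.1 p.2 - c'.F p.2 p.1} = ⊤) :
    ∃ (Γ : Type u) (_ : Group Γ) (_ : Finite Γ) (σ : Γ →* G),
      Cfsg.IsStemExtension σ ∧ Nonempty (σ.ker ≃* Multiplicative (A × A')) := by
  let d : Cocycle G (A × A') :=
    { F := fun x y => (c.F x y, c'.F x y)
      one_left := fun x => Prod.ext (c.one_left x) (c'.one_left x)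
      one_right := fun x => Prod.ext (c.one_right x) (c'.one_right x)
      cocycle := fun x y z => Prod.ext (c.cocycle x y z) (c'.cocycle x y z) }
  refine exists_stem_of_cocycle (c := d) hperf (W ++ W')
    (fun p hp => (List.mem_append.mp hp).elim (hW p) (hW' p)) ?_
  set S := AddSubgroup.closure {v | ∃ p ∈ W ++ W', v = d.F p.1 p.2 - d.F p.2 p.1}
  have h1 : S.map (AddMonoidHom.fst A A') = ⊤ := by
    rw [eq_top_iff, ← hgen, AddSubgroup.closure_le]
    rintro v ⟨p, hp, rfl⟩
    exact ⟨_, AddSubgroup.subset_closure ⟨p, List.mem_append_left _ hp, rfl⟩, rfl⟩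
  have h2 : S.map (AddMonoidHom.snd A A') = ⊤ := by
    rw [eq_top_iff, ← hgen', AddSubgroup.closure_le]
    rintro v ⟨p, hp, rfl⟩
    exact ⟨_, AddSubgroup.subset_closure ⟨p, List.mem_append_right _ hp, rfl⟩, rfl⟩
  have hbez : (1 : ℤ) = (b : ℤ) * Nat.gcdB a b + (a : ℤ) * Nat.gcdA a b := by
    rw [← Nat.cast_one, ← hab.gcd_eq_one, Nat.gcd_eq_gcd_ab]; ring
  have key1 : ∀ u : A, (u, (0 : A')) ∈ S := by
    intro u
    obtain ⟨⟨u', w⟩, hw, e⟩ := (h1 ▸ AddSubgroup.mem_top u : u ∈ S.map (AddMonoidHom.fst A A'))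
    obtain rfl : u' = u := e
    have := AddSubgroup.zsmul_mem S (AddSubgroup.zsmul_mem S hw (b : ℤ)) (Nat.gcdB a b)
    convert this using 1
    refine Prod.ext ?_ ?_
    · show u' = Nat.gcdB a b • ((b : ℤ) • u')
      conv_lhs => rw [← one_zsmul u', hbez, add_smul, mul_comm (a : ℤ), mul_smul (Nat.gcdA a b),
        natCast_zsmul u' a, ha, smul_zero, add_zero, mul_comm, mul_smul]
    · show 0 = Nat.gcdB a b • ((b : ℤ) • w)
      rw [natCast_zsmul, hb, smul_zero]
  have key2 : ∀ w : A', ((0 : A), w) ∈ S := by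
    intro w
    obtain ⟨⟨u, w'⟩, hw, e⟩ := (h2 ▸ AddSubgroup.mem_top w : w ∈ S.map (AddMonoidHom.snd A A'))
    obtain rfl : w' = w := e
    have := S.sub_mem hw (key1 u)
    simpa using this
  rw [eq_top_iff]
  rintro ⟨u, w⟩ _
  simpa using S.add_mem (key1 u) (key2 w)

end CfsgLib.CentralCert
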