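/-
An upper bound for a p-part of a multiplier from the relations of a subgroup and its fusion.
-/
import Cfsg.Agent.CentralCert.Basic
import Mathlib.GroupTheory.Transfer
import Mathlib.GroupTheory.Abelianization.Defs
import Cfsg.Prelude.Def_KGroupFacts

set_option autoImplicit false

namespace CfsgLib.CentralCert

open CfsgLib.ExtCert

attribute [local instance] centerCG

/-- A fusion certificate: a conjugating word, two lists of words, and two words in them. -/
structure Fus where
  G : List ℕ
  U : List (List ℕ)
  U' : List (List ℕ)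
  l : List ℕ
  r : List ℕ

/-- The data of an upper bound. -/
structure Upper where
  W : List (List ℕ)
  rels : List (List ℕ × List ℕ)
  NF : List (List ℕ)
  cons : List (List ℕ × ℕ)
  fus : List Fus
  K : List ZForm
  sec : List ZForm
  C : List ZForm
  e : List ZForm
  d : List ℕ
  A : List ZForm
  sels : List ZForm
  dsels : List ZForm

/-- Bound on the number of rewriting steps. -/
def fuel : ℕ := 10000

/-- The form of a consistency condition. -/
def consF (rels : List (List ℕ × List ℕ)) (x : List ℕ) (k : ℕ) : Option ZForm :=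
  let A := collect rels fuel (x ++ (rels.getD k ([], [])).1)
  let B := collect rels fuel (x ++ (rels.getD k ([], [])).2)
  if A.1 = B.1 ∧ k < rels.length then some (symF A.2 ++ negF (symF B.2) ++ [(k, -1)]) else none

/-- Equality of the numbers of occurrences of every letter. -/
def sameCnt (n : ℕ) (l r : List ℕ) : Bool :=
  (l ++ r).all (fun a => Nat.blt a n) && (List.range n).all fun j => decide (cnt j l = cnt j r)

/-- The form of a fusion condition. -/
def fusF (rels : List (List ℕ × List ℕ)) (u : Fus) : Option ZForm :=
  let A := collect rels fuel (flat u.U u.l)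
  let B := collect rels fuel (flat u.U u.r)
  let A' := collect rels fuel (flat u.U' u.l)
  let B' := collect rels fuel (flat u.U' u.r)
  if A.1 = B.1 ∧ A'.1 = B'.1 ∧ sameCnt u.U.length u.l u.r = true then
    some (symF A'.2 ++ negF (symF B'.2) ++ negF (symF A.2) ++ symF B.2)
  else none

namespace Upper

variable (D : Upper)

/-- The tables of the generators of the subgroup. -/
def sTab {β : Type} (one : β) (mul : β → β → β) (B : List β) : List β := D.W.map (tab one mul B)

variable {β : Type} [DecidableEq β] (one : β) (mul : β → β → β) (B : List β)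

/-- The relations hold. -/
def relsOK : Bool := D.rels.all fun lr =>
  decide (tab one mul (D.sTab one mul B) lr.1 = tab one mul (D.sTab one mul B) lr.2)

/-- The normal forms are closed and give different elements. -/
def nfOK : Bool := closedOK D.rels fuel D.W.length D.NF &&
  decide (D.NF.map (tab one mul (D.sTab one mul B))).Nodup &&
  D.NF.all fun w => w.all fun i => Nat.blt i D.W.length

/-- The recorded conjugations. -/
def fusOK : Bool := D.fus.all fun u => Nat.beq u.U.length u.U'.length && (List.range u.U.length).all fun i =>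
  decide (mul (tab one mul B u.G) (tab one mul (D.sTab one mul B) (u.U.getD i [])) =
    mul (tab one mul (D.sTab one mul B) (u.U'.getD i [])) (tab one mul B u.G))

/-- The recorded conditions are derived ones. -/
def kOK : Bool :=
  let F := D.cons.map (fun c => consF D.rels c.1 c.2) ++ D.fus.map (fusF D.rels)
  F.length == D.K.length && (F.zip D.K).all fun p =>
    match p.1 with
    | some f => zeroOK D.rels.length (f ++ negF p.2)
    | none => false

/-- The exponent vector of a form. -/
def expo (f : ZForm) (j : ℕ) : ℤ := lval (fun k => relv D.rels k j) f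

/-- The exponent vectors of the section span those of all relations, triangularly. -/
def secOK : Bool :=
  ((List.range D.W.length).all fun i => decide (D.expo (D.sec.getD i []) i ≠ 0) &&
    (List.range i).all fun j => decide (D.expo (D.sec.getD i []) j = 0)) &&
  (List.range D.rels.length).all fun k => (D.C.getD k []).all (fun e => Nat.blt e.1 D.W.length) &&
    (List.range D.W.length).all fun j =>
      decide (relv D.rels k j = lval (fun i => D.expo (D.sec.getD i []) j) (D.C.getD k []))

/-- Every tail is a combination of the section and the chosen classes. -/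
def identOK : Bool :=
  ((List.range D.rels.length).all fun k => zeroOK D.rels.length
    ([(k, 1)] ++ negF (subst D.sec (D.C.getD k [])) ++ negF (subst D.e (D.A.getD k [])) ++
      subst D.K (D.sels.getD k []))) &&
  (List.range D.e.length).all fun i => zeroOK D.rels.length
    (scale (D.d.getD i 0 : ℤ) (D.e.getD i []) ++ subst D.K (D.dsels.getD i []))

/-- All the tests. -/
def ok : Bool := D.relsOK one mul B && D.nfOK one mul B && D.fusOK one mul B && D.kOK && D.secOK && D.identOK

end Upper

section

variable {Γ G : Type*} [Group Γ] [Group G] [Finite Γ]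

/-- The transfer into a subgroup kills a power of an element of a stem kernel. -/
theorem pow_index_mem_commutator {σ : Γ →* G} (hσ : Cfsg.IsStemExtension σ) (S : Subgroup Γ) {z : Γ}
    (hz : z ∈ σ.ker) (hzS : z ∈ S) : (⟨z, hzS⟩ : S) ^ S.index ∈ commutator S := by
  let φ : S →* Abelianization S := Abelianization.of
  have key : ∀ (k : ℕ) (g₀ : Γ), g₀⁻¹ * z ^ k * g₀ ∈ S → g₀⁻¹ * z ^ k * g₀ = z ^ k := fun k g₀ _ => by
    rw [mul_assoc, ← ((show Commute g₀ z from Subgroup.mem_center_iff.1 (hσ.2.1 hz) g₀).pow_right k).eq,
      inv_mul_cancel_left]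
  have h1 : φ.transfer z = 1 := Abelianization.commutator_subset_ker φ.transfer (hσ.2.2 hz)
  rw [MonoidHom.transfer_eq_pow φ z key] at h1
  rw [← Abelianization.ker_of, MonoidHom.mem_ker]
  exact (congrArg φ (Subtype.ext (by simp))).trans h1

end

/-- Rewriting by the relations, recording the ones used. -/
inductive Rew (rels : List (List ℕ × List ℕ)) : List ℕ → List ℕ → ZForm → Prop
  | refl (w : List ℕ) : Rew rels w w []
  | step {w pre suf : List ℕ} {k : ℕ} {f : ZForm} (hk : k < rels.length)
      (h : Rew rels w (pre ++ (rels.getD k ([], [])).1 ++ suf) f) :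
      Rew rels w (pre ++ (rels.getD k ([], [])).2 ++ suf) ((k, 1) :: f)

theorem Rew.trans {rels : List (List ℕ × List ℕ)} {u v w : List ℕ} {f f' : ZForm} (h : Rew rels u v f)
    (h' : Rew rels v w f') : Rew rels u w (f' ++ f) := by
  induction h' with
  | refl => simpa using h
  | step hk _ ih => exact .step hk ih

theorem Rew.context {rels : List (List ℕ × List ℕ)} {v w : List ℕ} {f : ZForm} (h : Rew rels v w f)
    (a b : List ℕ) : Rew rels (a ++ v ++ b) (a ++ w ++ b) f := by
  induction h with
  | refl => exact .refl _
  | @step pre suf k f hk _ ih =>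
    have e : ∀ m, a ++ (pre ++ m ++ suf) ++ b = (a ++ pre) ++ m ++ (suf ++ b) := fun m => by simp
    rw [e] at ih ⊢
    exact .step hk ih

theorem rew_collect (rels : List (List ℕ × List ℕ)) : ∀ (n : ℕ) (w : List ℕ),
    Rew rels w (collect rels n w).1 (symF (collect rels n w).2) := by
  intro n
  induction n with
  | zero => exact fun w => .refl _
  | succ n ih =>
    intro w
    rw [collect]
    split
    · exact .refl _
    · next k pre suf _ =>
      split
      · next hk =>
        obtain ⟨hk, rfl⟩ := hk
        have h := (Rew.step hk (Rew.refl _)).trans (ih (pre ++ (rels.getD k ([], [])).2 ++ suf))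
        simp only [symF, List.map_append, List.map_cons, List.map_nil]
        exact h
      · exact .refl _

/-- A form follows from a consistency or a fusion condition, with some rewriting. -/
def Upper.Derived (D : Upper) (f : ZForm) : Prop :=
  (∃ (x A : List ℕ) (k : ℕ) (fa fb : ZForm), k < D.rels.length ∧
    Rew D.rels (x ++ (D.rels.getD k ([], [])).1) A fa ∧ Rew D.rels (x ++ (D.rels.getD k ([], [])).2) A fb ∧
    zeroOK D.rels.length (fa ++ negF fb ++ [(k, -1)] ++ negF f) = true) ∨
  ∃ u ∈ D.fus, ∃ (A A' : List ℕ) (fa fb fa' fb' : ZForm), sameCnt u.U.length u.l u.r = true ∧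
    Rew D.rels (flat u.U u.l) A fa ∧ Rew D.rels (flat u.U u.r) A fb ∧
    Rew D.rels (flat u.U' u.l) A' fa' ∧ Rew D.rels (flat u.U' u.r) A' fb' ∧
    zeroOK D.rels.length (fa' ++ negF fb' ++ negF fa ++ fb ++ negF f) = true

theorem Upper.derived_of_kOK {D : Upper} (h : D.kOK = true) : ∀ f ∈ D.K, D.Derived f := by
  simp only [Upper.kOK, Bool.and_eq_true, beq_iff_eq, List.all_eq_true] at h
  intro f hf
  obtain ⟨i, hi, rfl⟩ := List.mem_iff_getElem.mp hf
  set F := D.cons.map (fun c => consF D.rels c.1 c.2) ++ D.fus.map (fusF D.rels) with hF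
  have hiF : i < F.length := h.1 ▸ hi
  have hh := h.2 (F[i], D.K[i]) (by rw [← List.getElem_zip (h := by simp [hiF, hi])]; exact List.getElem_mem _)
  split at hh
  case h_2 => simp at hh
  case h_1 f0 hf0 =>
    have hm : some f0 ∈ F := hf0 ▸ List.getElem_mem hiF
    rw [hF, List.mem_append, List.mem_map, List.mem_map] at hm
    rcases hm with ⟨⟨y, k⟩, -, hc⟩ | ⟨u, hu, hc⟩
    · simp only [consF] at hc
      split at hc
      case isFalse => simp at hc
      case isTrue hc' =>
        obtain ⟨hAB, hk⟩ := hc'
        cases hc
        exact Or.inl ⟨y, _, k, _, _, hk, rew_collect _ _ _, hAB ▸ rew_collect _ _ _, hh⟩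
    · simp only [fusF] at hc
      split at hc
      case isFalse => simp at hc
      case isTrue hc' =>
        obtain ⟨hAB, hAB', hcnt⟩ := hc'
        cases hc
        exact Or.inr ⟨u, hu, _, _, _, _, _, _, hcnt, rew_collect _ _ _, hAB ▸ rew_collect _ _ _,
          rew_collect _ _ _, hAB' ▸ rew_collect _ _ _, hh⟩

/-- The bound: some power of each kernel element is generated by few elements of bounded order. -/
theorem Upper.bound_of_red {G : Type*} [Group G] {β : Type} [DecidableEq β] (md : Model G β) (D : Upper)
    {x : ℕ → G} {B : List β} (hx : ∀ i, md.enc (x i) = B.getD i md.one)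
    (h1 : D.relsOK md.one md.mul B = true) (h3 : D.fusOK md.one md.mul B = true)
    (h4 : ∀ f ∈ D.K, D.Derived f) (h5 : D.secOK = true) (h6 : D.identOK = true) (hnil : [] ∈ D.NF)
    (hnd : (D.NF.map (tab md.one md.mul (D.sTab md.one md.mul B))).Nodup)
    (hlet : ∀ v ∈ D.NF, ∀ i ∈ v, i < D.W.length)
    (hclosed : ∀ v ∈ D.NF, ∀ i < D.W.length, ∃ v' ∈ D.NF, ∃ f, Rew D.rels (v ++ [i]) v' f)
    {Γ : Type*} [Group Γ] [Finite Γ] {σ : Γ →* G}
    (hσ : Cfsg.IsStemExtension σ) :
    ∃ E : ℕ → Γ, (∀ i, E i ∈ σ.ker) ∧ (∀ i < D.e.length, E i ^ D.d.getD i 0 = 1) ∧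
      ∀ z ∈ σ.ker, ∀ m, m * D.NF.length = Nat.card G →
        z ^ m ∈ Subgroup.closure {y | ∃ i < D.e.length, E i = y} := by
  classical
  set TS := D.sTab md.one md.mul B with hTS
  set sG : ℕ → G := fun j => ev x (D.W.getD j []) with hsG
  have hsenc : ∀ j, md.enc (sG j) = TS.getD j md.one := by
    intro j
    rw [hsG, md.tab_spec hx, hTS, Upper.sTab]
    rcases lt_or_ge j D.W.length with hj | hj
    · rw [List.getD_eq_getElem _ _ hj, List.getD_eq_getElem _ _ (by simpa using hj), List.getElem_map]
    · rw [List.getD_eq_default _ _ hj, List.getD_eq_default _ _ (by simpa using hj)]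
      rfl
  choose g hg using fun j => hσ.1 (sG j)
  have hσev : ∀ w, σ (ev g w) = ev sG w := fun w => by
    induction w with
    | nil => simp [ev]
    | cons a w ih => rw [ev_cons, map_mul, hg, ih, ev_cons]
  have hrel : ∀ k, σ (ev g (D.rels.getD k ([], [])).1) = σ (ev g (D.rels.getD k ([], [])).2) := by
    intro k
    rw [hσev, hσev]
    rcases lt_or_ge k D.rels.length with hk | hk
    · simp only [Upper.relsOK, List.all_eq_true, decide_eq_true_eq] at h1
      rw [List.getD_eq_getElem _ _ hk]
      exact md.eq_of_tab hsenc (h1 _ (List.getElem_mem _))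
    · rw [List.getD_eq_default _ _ hk]
  have hker : ∀ k, (ev g (D.rels.getD k ([], [])).2)⁻¹ * ev g (D.rels.getD k ([], [])).1 ∈ σ.ker := fun k => by
    rw [MonoidHom.mem_ker, map_mul, map_inv, inv_mul_eq_one]; exact (hrel k).symm
  let t : ℕ → Subgroup.center Γ := fun k => ⟨_, hσ.2.1 (hker k)⟩
  let T : ℕ → Additive (Subgroup.center Γ) := fun k => addc (t k)
  have hR : Rels D.rels g (fun k => (t k : Γ)) := fun k _ => by simp [t]
  let cv : Additive (Subgroup.center Γ) → Γ := fun a => ((Additive.toMul a : Subgroup.center Γ) : Γ)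
  have hcv : ∀ a b, cv (a + b) = cv a * cv b := fun a b => rfl
  have hcker : ∀ f, cv (lval T f) ∈ σ.ker := by
    intro f
    induction f with
    | nil => rw [lval_nil]; exact one_mem _
    | cons e f ih =>
      rw [lval_cons, hcv]
      refine mul_mem ?_ ih
      show ((t e.1 ^ e.2 : Subgroup.center Γ) : Γ) ∈ σ.ker
      rw [Subgroup.coe_zpow]
      exact zpow_mem (hker e.1) _
  have hrew : ∀ {w v : List ℕ} {f : ZForm}, Rew D.rels w v f →
      ev g w = ev g v * cv (lval T f) ∧ ∀ j, cnt j w = cnt j v + D.expo f j := by
    intro w v f h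
    induction h with
    | refl => exact ⟨by simp [cv], fun j => by simp [Upper.expo]⟩
    | @step pre suf k f hk _ ih =>
      refine ⟨?_, fun j => ?_⟩
      · have hk' : ev g (D.rels.getD k ([], [])).1 = ev g (D.rels.getD k ([], [])).2 * cv (T k) := hR k hk
        rw [ih.1, ev_append, ev_append, hk', ev_append, ev_append, lval_cons, one_smul, hcv]
        simp only [mul_assoc]
        congr 2
        simp only [← mul_assoc]
        rw [Subgroup.mem_center_iff.mp (Additive.toMul (T k)).2 (ev g suf)]
      · rw [ih.2 j]
        simp only [cnt_append, Upper.expo, lval_cons, one_smul, relv]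
        ring
  have hK : ∀ f ∈ D.K, lval T f = 0 := by
    intro f hf
    rcases h4 f hf with ⟨y, A, k, fa, fb, hk, ha, hb, hz⟩ | ⟨u, hu, A, A', fa, fb, fa', fb', hcnt, ra, rb, ra', rb', hz⟩
    · suffices h0 : lval T (fa ++ negF fb ++ [(k, -1)]) = 0 by
        have := lval_zeroOK T hz
        rwa [lval_append, lval_negF, h0, zero_add, neg_eq_zero] at this
      have eA := (hrew ha).1
      have eB := (hrew hb).1
      have hk' : ev g (y ++ (D.rels.getD k ([], [])).1) =
          ev g (y ++ (D.rels.getD k ([], [])).2) * cv (T k) := by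
        rw [ev_append, ev_append, hR k hk, mul_assoc]; rfl
      rw [hk', eB, mul_assoc, ← hcv] at eA
      have e := mul_left_cancel eA
      have e' := Additive.toMul.injective (Subtype.ext e)
      simp only [lval_append, lval_negF, lval_cons, lval_nil, neg_smul, one_smul, add_zero]
      rw [← e']
      abel
    · suffices h0 : lval T (fa' ++ negF fb' ++ negF fa ++ fb) = 0 by
        have := lval_zeroOK T hz
        rwa [lval_append, lval_negF, h0, zero_add, neg_eq_zero] at this
      simp only [Upper.fusOK, List.all_eq_true, Bool.and_eq_true, decide_eq_true_eq, List.mem_range] at h3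
      obtain ⟨hlen, hperm⟩ := h3 u hu
      obtain ⟨Gl, hGl⟩ := hσ.1 (ev x u.G)
      set a : ℕ → Γ := fun i => ev g (u.U.getD i [])
      set b : ℕ → Γ := fun i => ev g (u.U'.getD i [])
      have hcu : ∀ i, (b i)⁻¹ * (Gl * a i * Gl⁻¹) ∈ Subgroup.center Γ := fun i => by
        apply hσ.2.1
        rw [MonoidHom.mem_ker, map_mul, map_inv, inv_mul_eq_one, map_mul, map_mul, map_inv, eq_mul_inv_iff_mul_eq]
        simp only [a, b, hσev, hGl]
        rcases lt_or_ge i u.U.length with hi' | hi'
        · apply md.inj
          rw [md.enc_mul, md.enc_mul, md.tab_spec hx, md.tab_spec hsenc, md.tab_spec hsenc]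
          exact (hperm i hi').symm
        · rw [List.getD_eq_default _ _ hi', List.getD_eq_default _ _ ((Nat.beq_eq ▸ hlen : u.U.length = u.U'.length) ▸ hi'), ev_nil]
          simp
      let c : ℕ → Additive (Subgroup.center Γ) := fun i => addc ⟨_, hcu i⟩
      have hconj : ∀ w : List ℕ, Gl * ev g (flat u.U w) * Gl⁻¹ =
          ev g (flat u.U' w) * cv (∑ i ∈ Finset.range u.U.length, cnt i w • c i +
            lval c ((w.filter fun i => !Nat.blt i u.U.length).map fun i => (i, 1))) := by
        intro w
        induction w with
        | nil => simp [flat, ev_nil, cnt, cv]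
        | cons i w ih =>
          have hfl : ∀ V : List (List ℕ), flat V (i :: w) = V.getD i [] ++ flat V w := fun V => rfl
          have hhead : Gl * a i * Gl⁻¹ = b i * cv (c i) := by
            show _ = b i * ((b i)⁻¹ * (Gl * a i * Gl⁻¹))
            rw [mul_inv_cancel_left]
          have hsplit : ∑ j ∈ Finset.range u.U.length, cnt j (i :: w) • c j +
                lval c (((i :: w).filter fun i => !Nat.blt i u.U.length).map fun i => (i, 1)) =
              c i + (∑ j ∈ Finset.range u.U.length, cnt j w • c j +
                lval c ((w.filter fun i => !Nat.blt i u.U.length).map fun i => (i, 1))) := by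
            simp only [cnt, add_smul, Finset.sum_add_distrib, ite_smul, one_smul, zero_smul,
              Finset.sum_ite_eq, Finset.mem_range]
            by_cases hiu : i < u.U.length
            · have : Nat.blt i u.U.length = true := Nat.blt_eq.mpr hiu
              simp [hiu, this, add_assoc]
            · have : Nat.blt i u.U.length = false := by simpa [Nat.blt_eq, ← Bool.not_eq_true] using hiu
              simp [hiu, this]
              abel
          rw [hfl, hfl, ev_append, ev_append, hsplit, hcv]
          calc Gl * (a i * ev g (flat u.U w)) * Gl⁻¹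
              = (Gl * a i * Gl⁻¹) * (Gl * ev g (flat u.U w) * Gl⁻¹) := by group
            _ = b i * (cv (c i) * ev g (flat u.U' w)) * cv (∑ j ∈ Finset.range u.U.length, cnt j w • c j +
                lval c ((w.filter fun i => !Nat.blt i u.U.length).map fun i => (i, 1))) := by
              rw [hhead, ih]; simp only [mul_assoc]
            _ = _ := by
              rw [← Subgroup.mem_center_iff.mp (Additive.toMul (c i)).2 (ev g (flat u.U' w))]
              simp only [mul_assoc]
              rfl
      have hsame : ∀ i, cnt i u.l • c i = cnt i u.r • c i ∨ u.U.length ≤ i := fun i => by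
        simp only [sameCnt, Bool.and_eq_true, List.all_eq_true, decide_eq_true_eq, List.mem_range] at hcnt
        rcases lt_or_ge i u.U.length with hi' | hi'
        · exact Or.inl (by rw [hcnt.2 i hi'])
        · exact Or.inr hi'
      have hnone : ∀ w : List ℕ, (∀ i ∈ w, i ∈ u.l ++ u.r) →
          w.filter (fun i => !Nat.blt i u.U.length) = [] := fun w hw => by
        simp only [sameCnt, Bool.and_eq_true, List.all_eq_true] at hcnt
        rw [List.filter_eq_nil_iff]
        intro i hi
        simp [hcnt.1 i (hw i hi)]
      have kl := hconj u.l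
      have kr := hconj u.r
      rw [hnone _ fun i hi => List.mem_append_left _ hi, List.map_nil, lval_nil, add_zero] at kl
      rw [hnone _ fun i hi => List.mem_append_right _ hi, List.map_nil, lval_nil, add_zero] at kr
      have hsum : ∑ i ∈ Finset.range u.U.length, cnt i u.l • c i =
          ∑ i ∈ Finset.range u.U.length, cnt i u.r • c i :=
        Finset.sum_congr rfl fun i hi => (hsame i).resolve_right (not_le.mpr (Finset.mem_range.mp hi))
      rw [(hrew ra).1, (hrew ra').1] at kl
      rw [(hrew rb).1, (hrew rb').1, ← hsum] at kr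
      generalize ev g A = P at kl kr
      generalize ev g A' = P' at kl kr
      generalize ∑ i ∈ Finset.range u.U.length, cnt i u.l • c i = S at kl kr
      simp only [lval_append, lval_negF]
      generalize lval T fa = Ta at kl ⊢
      generalize lval T fb = Tb at kr ⊢
      generalize lval T fa' = Ta' at kl ⊢
      generalize lval T fb' = Tb' at kr ⊢
      have hh : ∀ q q', Gl * (P * cv q) * Gl⁻¹ = P' * cv q' → Gl * P * Gl⁻¹ = P' * cv (q' - q) := by
        intro q q' h
        rw [show Gl * (P * cv q) * Gl⁻¹ = Gl * P * Gl⁻¹ * cv q from by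
          rw [mul_assoc Gl, mul_assoc P, ← Subgroup.mem_center_iff.mp (Additive.toMul q).2 Gl⁻¹]
          simp only [mul_assoc]
          rfl] at h
        have hq : cv (q' - q) * cv q = cv q' := by rw [← hcv, sub_add_cancel]
        rw [← hq, ← mul_assoc] at h
        exact mul_right_cancel h
      rw [mul_assoc P', ← hcv] at kl kr
      have e := (hh _ _ kl).symm.trans (hh _ _ kr)
      have e' := Additive.toMul.injective (Subtype.ext (mul_left_cancel e))
      have e'' : Ta' - Ta = Tb' - Tb := by linear_combination (norm := abel) e'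
      rw [show Ta' + -Tb' + -Ta + Tb = (Ta' - Ta) - (Tb' - Tb) by abel, e'', sub_self]
  -- the subgroup and its exponent map
  have red : ∀ w : List ℕ, (∀ i ∈ w, i < D.W.length) → ∃ v ∈ D.NF, ∃ f : ZForm,
      ev g w = ev g v * cv (lval T f) ∧ ∀ j, cnt j w = cnt j v + D.expo f j := by
    intro w hw
    induction w using List.reverseRecOn with
    | nil => exact ⟨[], hnil, [], by simp [ev_nil, cv], fun j => by simp [Upper.expo]⟩
    | append_singleton w i ih =>
      obtain ⟨v, hv, f, he, hc⟩ := ih fun a ha => hw a (List.mem_append_left _ ha)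
      obtain ⟨v', hv', f', hf'⟩ := hclosed v hv i (hw i (by simp))
      obtain ⟨he', hc'⟩ := hrew hf'
      refine ⟨v', hv', f' ++ f, ?_, fun j => ?_⟩
      · rw [ev_append, he, mul_assoc, ← Subgroup.mem_center_iff.mp (Additive.toMul (lval T f)).2 (ev g [i]),
          ← mul_assoc, ← ev_append, he', mul_assoc, lval_append, hcv]
      · rw [cnt_append, hc, show cnt j [i] = cnt j (v ++ [i]) - cnt j v by rw [cnt_append]; ring, hc']
        simp only [Upper.expo, lval_append]
        ring
  have hinj : ∀ v ∈ D.NF, ∀ v' ∈ D.NF, ev sG v = ev sG v' → v = v' := fun v hv v' hv' h =>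
    List.inj_on_of_nodup_map hnd hv hv' (by rw [← md.tab_spec hsenc, ← md.tab_spec hsenc, h])
  let Simg : Subgroup G := Subgroup.closure {y | ∃ i < D.W.length, sG i = y}
  haveI : Finite G := Finite.of_surjective σ hσ.1
  have hS : ∀ y, y ∈ Simg ↔ ∃ v ∈ D.NF, ev sG v = y := by
    intro y
    constructor
    · intro hy
      rw [← Subgroup.mem_toSubmonoid, Subgroup.closure_toSubmonoid_of_finite] at hy
      induction hy using Submonoid.closure_induction_right with
      | one => exact ⟨[], hnil, rfl⟩
      | mul_right a _ b hb ih =>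
        obtain ⟨v, hv, rfl⟩ := ih
        obtain ⟨i, hi, rfl⟩ := hb
        obtain ⟨v', hv', f, he, -⟩ := red (v ++ [i]) (fun a ha => by
          rcases List.mem_append.mp ha with ha | ha
          · exact hlet v hv a ha
          · rw [List.mem_singleton.mp ha]; exact hi)
        refine ⟨v', hv', ?_⟩
        have := congrArg σ he
        rw [map_mul, MonoidHom.mem_ker.mp (hcker f), mul_one, hσev, hσev, ev_append] at this
        simpa [ev] using this.symm
    · rintro ⟨v, hv, rfl⟩
      exact list_prod_mem fun y hy => by
        obtain ⟨i, hi, rfl⟩ := List.mem_map.mp hy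
        exact Subgroup.subset_closure ⟨i, hlet v hv i hi, rfl⟩
  let St : Subgroup Γ := Simg.comap σ
  let relF : ZForm → ℕ → ℤ := fun f j => D.expo f j
  let R : AddSubgroup ((ℕ → ℤ) × Additive (Subgroup.center Γ)) :=
    { carrier := {p | ∃ f : ZForm, p = (relF f, - lval T f)}
      zero_mem' := ⟨[], Prod.ext (funext fun j => by simp [relF, Upper.expo]) (by simp)⟩
      add_mem' := by
        rintro _ _ ⟨f, rfl⟩ ⟨f', rfl⟩
        exact ⟨f ++ f', Prod.ext (funext fun j => by simp [relF, Upper.expo, lval_append]) (by simp [lval_append]; abel)⟩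
      neg_mem' := by
        rintro _ ⟨f, rfl⟩
        exact ⟨negF f, Prod.ext (funext fun j => by simp [relF, Upper.expo, lval_negF]) (by simp [lval_negF])⟩ }
  have hrep : ∀ y : St, ∃ v ∈ D.NF, ∃ k : Additive (Subgroup.center Γ), (y : Γ) = ev g v * cv k ∧ cv k ∈ σ.ker := by
    intro y
    obtain ⟨v, hv, he⟩ := (hS _).mp y.2
    have hk : (ev g v)⁻¹ * (y : Γ) ∈ σ.ker := by
      rw [MonoidHom.mem_ker, map_mul, map_inv, hσev, he, inv_mul_cancel]
    exact ⟨v, hv, addc ⟨_, hσ.2.1 hk⟩, (mul_inv_cancel_left _ _).symm, hk⟩
  let θ0 : St → (((ℕ → ℤ) × Additive (Subgroup.center Γ)) ⧸ R) := fun y =>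
    QuotientAddGroup.mk (fun j => cnt j (hrep y).choose, (hrep y).choose_spec.2.choose)
  have hθ : ∀ (y : St) (w : List ℕ) (k : Additive (Subgroup.center Γ)), (∀ i ∈ w, i < D.W.length) →
      (y : Γ) = ev g w * cv k → cv k ∈ σ.ker → θ0 y = QuotientAddGroup.mk (fun j => cnt j w, k) := by
    intro y w k hw hy hk
    obtain ⟨v, hv, f, he, hc⟩ := red w hw
    have hv0 := (hrep y).choose_spec.1
    have hspec := (hrep y).choose_spec.2.choose_spec
    simp only [θ0]
    generalize (hrep y).choose_spec.2.choose = k0 at hspec ⊢
    generalize (hrep y).choose = v0 at hspec hv0 ⊢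
    have hvv : v = v0 := hinj v hv v0 hv0 (by
      have := congrArg σ (hy.symm.trans hspec.1)
      rw [map_mul, map_mul, MonoidHom.mem_ker.mp hk, MonoidHom.mem_ker.mp hspec.2, he, map_mul,
        MonoidHom.mem_ker.mp (hcker f), mul_one, mul_one, mul_one, hσev, hσev] at this
      exact this)
    subst hvv
    have hk0 : k0 = lval T f + k := by
      have := hy.symm.trans hspec.1
      rw [he, mul_assoc, ← hcv] at this
      exact (Additive.toMul.injective (Subtype.ext (mul_left_cancel this))).symm
    rw [QuotientAddGroup.eq]
    refine ⟨f, Prod.ext (funext fun j => ?_) ?_⟩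
    · show -cnt j v + cnt j w = D.expo f j
      rw [hc]; ring
    · show -k0 + k = - lval T f
      rw [hk0]; abel
  let θ : St →* Multiplicative (((ℕ → ℤ) × Additive (Subgroup.center Γ)) ⧸ R) := MonoidHom.mk'
    (fun y => Multiplicative.ofAdd (θ0 y)) (by
      intro y y'
      obtain ⟨v, hv, k, hy, hk⟩ := hrep y
      obtain ⟨v', hv', k', hy', hk'⟩ := hrep y'
      rw [hθ y v k (hlet v hv) hy hk, hθ y' v' k' (hlet v' hv') hy' hk',
        hθ (y * y') (v ++ v') (k + k') (fun i hi => (List.mem_append.mp hi).elim (hlet v hv i) (hlet v' hv' i))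
          (by
            rw [Subgroup.coe_mul, hy, hy', ev_append, hcv]
            rw [mul_assoc (ev g v), ← mul_assoc (cv k), ← Subgroup.mem_center_iff.mp (Additive.toMul k).2 (ev g v')]
            simp only [mul_assoc]
            rfl)
          (by rw [hcv]; exact mul_mem hk hk'),
        ← ofAdd_add, ← QuotientAddGroup.mk_add]
      congr 2
      exact Prod.ext (funext fun j => cnt_append j v v') rfl)
  -- the kernel part of the derived subgroup
  have hmain : ∀ (z : Γ) (hz : z ∈ σ.ker) (hzS : z ∈ St), θ ⟨z, hzS⟩ = 1 →
      ∃ h : ZForm, z = cv (lval T (subst D.e h)) := by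
    intro z hz hzS h1
    have h0 : θ0 ⟨z, hzS⟩ = 0 := h1
    rw [hθ ⟨z, hzS⟩ [] (addc ⟨z, hσ.2.1 hz⟩) (by simp) (by simp [ev_nil, cv]) (by exact hz),
      QuotientAddGroup.eq_zero_iff] at h0
    obtain ⟨f, hf⟩ := h0
    have hf1 : ∀ j, D.expo f j = 0 := fun j => by
      have := congrFun (congrArg Prod.fst hf) j
      simpa [cnt, relF] using this.symm
    have hf2 : z = cv (lval T (negF f)) := by
      rw [lval_negF, ← show addc ⟨z, hσ.2.1 hz⟩ = - lval T f from congrArg Prod.snd hf]
      rfl
    simp only [Upper.secOK, Upper.identOK, Bool.and_eq_true, List.all_eq_true, decide_eq_true_eq, List.mem_range] at h5 h6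
    have htail : ∀ k, lval T [(k, 1)] = lval T (subst D.sec (D.C.getD k [])) + lval T (subst D.e (D.A.getD k []))
        ∨ D.rels.length ≤ k := by
      intro k
      rcases lt_or_ge k D.rels.length with hk | hk
      · have := lval_zeroOK T (h6.1 k hk)
        rw [lval_append, lval_append, lval_append, lval_negF, lval_negF, lval_sel T D.K hK, add_zero] at this
        left
        linear_combination (norm := abel) this
      · exact Or.inr hk
    have htail0 : ∀ k, D.rels.length ≤ k → T k = 0 := fun k hk => by
      apply Additive.toMul.injective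
      refine Subtype.ext ?_
      show (ev g (D.rels.getD k ([], [])).2)⁻¹ * ev g (D.rels.getD k ([], [])).1 = 1
      rw [List.getD_eq_default _ _ hk]; simp
    set f' := (negF f).filter fun e => Nat.blt e.1 D.rels.length
    have hexp' : ∀ j, D.expo f' j = 0 := fun j => by
      rw [Upper.expo, ← lval_filter (fun k => relv D.rels k j) _ (fun k hk => by
        simp only [relv]; rw [List.getD_eq_default _ _ hk]; simp [cnt]), lval_negF, ← Upper.expo, hf1, neg_zero]
    set c := subst D.C f'
    have hcidx : ∀ e ∈ c, e.1 < D.W.length := by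
      intro e he
      simp only [c, subst, List.mem_flatMap] at he
      obtain ⟨q, hq, he⟩ := he
      obtain ⟨e', he', rfl⟩ := List.mem_map.mp he
      have hql : q.1 < D.rels.length := by simpa using (List.mem_filter.mp hq).2
      exact Nat.blt_eq.mp ((h5.2 q.1 hql).1 e' he')
    have hcexp : ∀ j < D.W.length, lval (fun i => D.expo (D.sec.getD i []) j) c = 0 := by
      intro j hj
      rw [lval_subst, ← hexp' j, Upper.expo]
      have : ∀ q : ZForm, (∀ e ∈ q, e.1 < D.rels.length) →
          lval (fun k => lval (fun i => D.expo (D.sec.getD i []) j) (D.C.getD k [])) q =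
            lval (fun k => relv D.rels k j) q := by
        intro q hq
        induction q with
        | nil => simp
        | cons e q ih =>
          rw [lval_cons, lval_cons, ih fun a ha => hq a (List.mem_cons_of_mem _ ha),
            ← (h5.2 e.1 (hq e List.mem_cons_self)).2 j hj]
      exact this f' fun e he => by simpa using (List.mem_filter.mp he).2
    have hzero : ∀ i < D.W.length, acc i c = 0 := by
      intro i
      induction i using Nat.strong_induction_on with
      | _ i ih =>
        intro hi
        have := hcexp i hi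
        rw [lval_eq_sum _ c hcidx, Finset.sum_eq_single i] at this
        · exact (mul_eq_zero.mp (by simpa [smul_eq_mul] using this)).resolve_right (h5.1 i hi).1
        · intro b hb hbi
          rcases lt_or_gt_of_ne hbi with h | h
          · rw [ih b h (h.trans hi), zero_smul]
          · rw [(h5.1 b (Finset.mem_range.mp hb)).2 i h, smul_zero]
        · intro h; exact absurd (Finset.mem_range.mpr hi) h
    refine ⟨subst D.A f', ?_⟩
    rw [hf2, lval_filter T _ htail0]
    congr 1
    have hkey : ∀ q : ZForm, (∀ e ∈ q, e.1 < D.rels.length) →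
        lval T q = lval (fun i => lval T (D.sec.getD i [])) (subst D.C q) + lval T (subst D.e (subst D.A q)) := by
      intro q hq
      induction q with
      | nil => simp [subst]
      | cons e q ih =>
        have hd : ∀ C : List ZForm, subst C (e :: q) = scale e.2 (C.getD e.1 []) ++ subst C q := fun C => rfl
        have hte := (htail e.1).resolve_right (not_le.mpr (hq e List.mem_cons_self))
        rw [lval_cons, lval_nil, add_zero, one_smul] at hte
        rw [lval_cons, ih fun a ha => hq a (List.mem_cons_of_mem _ ha), hd, hd, hte, lval_subst T D.e,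
          lval_subst T D.e, lval_subst T D.e, lval_subst T D.sec]
        simp only [lval_append, lval_scale, smul_add]
        abel
    rw [hkey f' fun e he => by simpa using (List.mem_filter.mp he).2, lval_eq_sum _ c hcidx,
      Finset.sum_eq_zero (fun i hi => by rw [hzero i (Finset.mem_range.mp hi), zero_smul]), zero_add]
  refine ⟨fun i => cv (lval T (D.e.getD i [])), fun i => hcker _, fun i hi => ?_, fun z hz m hm => ?_⟩
  · simp only [Upper.identOK, Bool.and_eq_true, List.all_eq_true, List.mem_range] at h6
    have := lval_zeroOK T (h6.2 i hi)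
    rw [lval_append, lval_scale, lval_sel T D.K hK, add_zero, natCast_zsmul] at this
    have h' := congrArg cv this
    simpa [cv] using h'
  · have hzS : z ∈ St := by
      show σ z ∈ Simg
      rw [MonoidHom.mem_ker.mp hz]; exact one_mem _
    have hcardS : Nat.card Simg = D.NF.length := by
      have hset : (Simg : Set G) = ((D.NF.map (ev sG)).toFinset : Set G) := by
        ext y; simp [hS]
      have hnd' : (D.NF.map (ev sG)).Nodup := by
        refine List.Nodup.of_map md.enc ?_
        rw [List.map_map, List.map_congr_left fun w _ => show (md.enc ∘ ev sG) w = tab md.one md.mul TS w from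
          md.tab_spec hsenc w]
        exact hnd
      rw [show Nat.card Simg = Nat.card (Simg : Set G) from rfl, hset, Nat.card_coe_set_eq,
        Set.ncard_coe_finset, List.toFinset_card_of_nodup hnd', List.length_map]
    have hm' : St.index = m := by
      rw [Subgroup.index_comap_of_surjective _ hσ.1]
      refine Nat.eq_of_mul_eq_mul_right (show 0 < D.NF.length from List.length_pos_of_mem hnil) ?_
      rw [hm, ← hcardS, mul_comm, Simg.card_mul_index]
    have hmem := pow_index_mem_commutator hσ St hz hzS
    rw [hm'] at hmem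
    have hpow : z ^ m ∈ σ.ker := pow_mem hz m
    have hpS : z ^ m ∈ St := pow_mem hzS m
    obtain ⟨h, he⟩ := hmain (z ^ m) hpow hpS (by
      rw [show (⟨z ^ m, hpS⟩ : St) = (⟨z, hzS⟩ : St) ^ m from Subtype.ext (by simp)]
      letI : CommGroup (Multiplicative (((ℕ → ℤ) × Additive (Subgroup.center Γ)) ⧸ R)) := inferInstance
      exact Abelianization.commutator_subset_ker θ hmem)
    rw [he]
    clear he
    induction h with
    | nil => simp [subst, cv]
    | cons e h ih =>
      rw [subst, List.flatMap_cons, ← subst, lval_append, hcv, lval_scale]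
      refine mul_mem ?_ ih
      show ((Additive.toMul (lval T (D.e.getD e.1 [])) ^ e.2 : Subgroup.center Γ) : Γ) ∈ _
      rw [Subgroup.coe_zpow]
      rcases lt_or_ge e.1 D.e.length with hl | hl
      · refine zpow_mem (Subgroup.subset_closure ?_) _
        exact ⟨e.1, hl, rfl⟩
      · rw [List.getD_eq_default _ _ hl]; simp

/-- The bound from all the tests. -/
theorem Upper.bound {G : Type*} [Group G] {β : Type} [DecidableEq β] (md : Model G β) (D : Upper)
    {x : ℕ → G} {B : List β} (hx : ∀ i, md.enc (x i) = B.getD i md.one)
    (hok : D.ok md.one md.mul B = true) {Γ : Type*} [Group Γ] [Finite Γ] {σ : Γ →* G}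
    (hσ : Cfsg.IsStemExtension σ) :
    ∃ E : ℕ → Γ, (∀ i, E i ∈ σ.ker) ∧ (∀ i < D.e.length, E i ^ D.d.getD i 0 = 1) ∧
      ∀ z ∈ σ.ker, ∀ m, m * D.NF.length = Nat.card G →
        z ^ m ∈ Subgroup.closure {y | ∃ i < D.e.length, E i = y} := by
  simp only [Upper.ok, Bool.and_eq_true] at hok
  obtain ⟨⟨⟨⟨⟨h1, h2⟩, h3⟩, h4⟩, h5⟩, h6⟩ := hok
  simp only [Upper.nfOK, closedOK, Bool.and_eq_true, decide_eq_true_eq, List.all_eq_true, List.mem_range,
    List.contains_iff_mem, Nat.blt_eq] at h2
  obtain ⟨⟨⟨hnil, hclosed⟩, hnd⟩, hlet⟩ := h2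
  exact D.bound_of_red md hx h1 h3 (D.derived_of_kOK h4) h5 h6 hnil hnd hlet
    (fun v hv i hi => ⟨_, hclosed v hv i hi, _, rew_collect D.rels fuel (v ++ [i])⟩) hσ

end CfsgLib.CentralCert
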