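/-
From a bound and a witness to the multiplier.
-/
import Cfsg.Agent.CentralCert.Upper
import Cfsg.Agent.CentralCert.Lower
import Cfsg.Agent.Schur.Exponent

set_option autoImplicit false

namespace CfsgLib.CentralCert

universe u

variable {G : Type u} [Group G]

/-- The exponent of a stem kernel squares into the order of the group. -/
theorem pow_coprime_mem {Γ : Type u} [Group Γ] [Finite Γ] {σ : Γ →* G} (hσ : Cfsg.IsStemExtension σ)
    {m : ℕ} (hm : ∀ e, e ^ 2 ∣ Nat.card G → e.Coprime m) {H : Subgroup Γ}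
    (h : ∀ z ∈ σ.ker, z ^ m ∈ H) {z : Γ} (hz : z ∈ σ.ker) : z ∈ H := by
  have h1 := CfsgLib.Schur.exponent_sq_dvd_index σ.ker hσ.2.1 hσ.2.2
  rw [Subgroup.index_ker, MonoidHom.range_eq_top.mpr hσ.1, Subgroup.card_top] at h1
  have hc := hm _ h1
  have ho : orderOf (⟨z, hz⟩ : σ.ker) ∣ Monoid.exponent σ.ker := Monoid.order_dvd_exponent _
  rw [Subgroup.orderOf_mk] at ho
  obtain ⟨j, hj⟩ := exists_pow_eq_self_of_coprime ((hc.coprime_dvd_left ho).symm)
  rw [← hj]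
  exact pow_mem (h z hz) j

/-- Two elements of bounded order generating a kernel give a surjection. -/
theorem exists_surj_two {Γ : Type u} [Group Γ] {σ : Γ →* G} (hc : σ.ker ≤ Subgroup.center Γ)
    {a b : ℕ} (E : ℕ → Γ) (hE : ∀ i, E i ∈ σ.ker) (h0 : E 0 ^ a = 1) (h1 : E 1 ^ b = 1)
    (hgen : ∀ z ∈ σ.ker, z ∈ Subgroup.closure {y | ∃ i < 2, E i = y}) :
    ∃ π : Multiplicative (ZMod a × ZMod b) →* σ.ker, Function.Surjective π := by
  letI : CommGroup σ.ker := { (inferInstance : Group σ.ker) with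
    mul_comm := fun x y => Subtype.ext (Subgroup.mem_center_iff.mp (hc y.2) x) }
  let f0 : ZMod a →+ Additive σ.ker := ZMod.lift a
    ⟨zmultiplesHom _ (Additive.ofMul (⟨E 0, hE 0⟩ : σ.ker)), by
      rw [zmultiplesHom_apply, natCast_zsmul, ← ofMul_pow]
      exact congrArg Additive.ofMul (Subtype.ext (by simpa using h0))⟩
  let f1 : ZMod b →+ Additive σ.ker := ZMod.lift b
    ⟨zmultiplesHom _ (Additive.ofMul (⟨E 1, hE 1⟩ : σ.ker)), by
      rw [zmultiplesHom_apply, natCast_zsmul, ← ofMul_pow]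
      exact congrArg Additive.ofMul (Subtype.ext (by simpa using h1))⟩
  let π : Multiplicative (ZMod a × ZMod b) →* σ.ker := (AddMonoidHom.coprod f0 f1).toMultiplicativeLeft
  refine ⟨π, fun z => ?_⟩
  have hle : Subgroup.closure {y | ∃ i < 2, E i = y} ≤ π.range.map σ.ker.subtype := by
    rw [Subgroup.closure_le]
    rintro y ⟨i, hi, rfl⟩
    interval_cases i
    · refine ⟨⟨E 0, hE 0⟩, ⟨Multiplicative.ofAdd (((1 : ℤ) : ZMod a), 0), ?_⟩, rfl⟩
      simp only [π, f0, AddMonoidHom.toMultiplicativeLeft_apply_apply, toAdd_ofAdd, AddMonoidHom.coprod_apply,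
        map_zero, add_zero, ZMod.lift_coe, zmultiplesHom_apply, one_zsmul]
      rfl
    · refine ⟨⟨E 1, hE 1⟩, ⟨Multiplicative.ofAdd (0, ((1 : ℤ) : ZMod b)), ?_⟩, rfl⟩
      simp only [π, f1, AddMonoidHom.toMultiplicativeLeft_apply_apply, toAdd_ofAdd, AddMonoidHom.coprod_apply,
        map_zero, zero_add, ZMod.lift_coe, zmultiplesHom_apply, one_zsmul]
      rfl
  obtain ⟨w, ⟨q, hq⟩, hw⟩ := hle (hgen z z.2)
  exact ⟨q, hq.trans (Subtype.ext hw)⟩

/-- Three elements of bounded order generating a kernel give a surjection. -/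
theorem exists_surj_three {Γ : Type u} [Group Γ] {σ : Γ →* G} (hc : σ.ker ≤ Subgroup.center Γ)
    {a b c : ℕ} {x y z : Γ} (hx : x ∈ σ.ker) (hy : y ∈ σ.ker) (hz : z ∈ σ.ker)
    (hxa : x ^ a = 1) (hyb : y ^ b = 1) (hzc : z ^ c = 1)
    (hgen : ∀ w ∈ σ.ker, w ∈ Subgroup.closure {x, y, z}) :
    ∃ π : Multiplicative (ZMod a × ZMod b × ZMod c) →* σ.ker, Function.Surjective π := by
  letI : CommGroup σ.ker := { (inferInstance : Group σ.ker) with
    mul_comm := fun x y => Subtype.ext (Subgroup.mem_center_iff.mp (hc y.2) x) }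
  let lift : ∀ (k : ℕ) (u : Γ), u ∈ σ.ker → u ^ k = 1 → (ZMod k →+ Additive σ.ker) := fun k u hu h1 =>
    ZMod.lift k ⟨zmultiplesHom _ (Additive.ofMul (⟨u, hu⟩ : σ.ker)), by
      rw [zmultiplesHom_apply, natCast_zsmul, ← ofMul_pow]
      exact congrArg Additive.ofMul (Subtype.ext (by simpa using h1))⟩
  have hlift : ∀ (k : ℕ) (u : Γ) (hu : u ∈ σ.ker) (h1 : u ^ k = 1),
      lift k u hu h1 ((1 : ℤ) : ZMod k) = Additive.ofMul (⟨u, hu⟩ : σ.ker) := fun k u hu h1 => by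
    simp only [lift, ZMod.lift_coe, zmultiplesHom_apply, one_zsmul]
  let π : Multiplicative (ZMod a × ZMod b × ZMod c) →* σ.ker :=
    (AddMonoidHom.coprod (lift a x hx hxa)
      (AddMonoidHom.coprod (lift b y hy hyb) (lift c z hz hzc))).toMultiplicativeLeft
  refine ⟨π, fun w => ?_⟩
  have hle : Subgroup.closure {x, y, z} ≤ π.range.map σ.ker.subtype := by
    rw [Subgroup.closure_le]
    rintro u (rfl | rfl | rfl)
    · refine ⟨⟨u, hx⟩, ⟨Multiplicative.ofAdd (((1 : ℤ) : ZMod a), 0, 0), ?_⟩, rfl⟩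
      simp only [π, AddMonoidHom.toMultiplicativeLeft_apply_apply, toAdd_ofAdd, AddMonoidHom.coprod_apply,
        map_zero, add_zero, hlift]
      rfl
    · refine ⟨⟨u, hy⟩, ⟨Multiplicative.ofAdd (0, ((1 : ℤ) : ZMod b), 0), ?_⟩, rfl⟩
      simp only [π, AddMonoidHom.toMultiplicativeLeft_apply_apply, toAdd_ofAdd, AddMonoidHom.coprod_apply,
        map_zero, add_zero, zero_add, hlift]
      rfl
    · refine ⟨⟨u, hz⟩, ⟨Multiplicative.ofAdd (0, 0, ((1 : ℤ) : ZMod c)), ?_⟩, rfl⟩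
      simp only [π, AddMonoidHom.toMultiplicativeLeft_apply_apply, toAdd_ofAdd, AddMonoidHom.coprod_apply,
        map_zero, zero_add, hlift]
      rfl
  obtain ⟨v, ⟨q, hq⟩, hv⟩ := hle (hgen w w.2)
  exact ⟨q, hq.trans (Subtype.ext hv)⟩

/-- One element of bounded order generating a kernel gives a surjection. -/
theorem exists_surj_one {Γ : Type u} [Group Γ] {σ : Γ →* G} (hc : σ.ker ≤ Subgroup.center Γ)
    {a : ℕ} {y : Γ} (hy : y ∈ σ.ker) (h0 : y ^ a = 1) (hgen : ∀ z ∈ σ.ker, z ∈ Subgroup.zpowers y) :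
    ∃ π : Multiplicative (ZMod a) →* σ.ker, Function.Surjective π := by
  letI : CommGroup σ.ker := { (inferInstance : Group σ.ker) with
    mul_comm := fun x y => Subtype.ext (Subgroup.mem_center_iff.mp (hc y.2) x) }
  let f0 : ZMod a →+ Additive σ.ker := ZMod.lift a
    ⟨zmultiplesHom _ (Additive.ofMul (⟨y, hy⟩ : σ.ker)), by
      rw [zmultiplesHom_apply, natCast_zsmul, ← ofMul_pow]
      exact congrArg Additive.ofMul (Subtype.ext (by simpa using h0))⟩
  refine ⟨f0.toMultiplicativeLeft, fun z => ?_⟩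
  obtain ⟨k, hk⟩ := Subgroup.mem_zpowers_iff.mp (hgen z z.2)
  refine ⟨Multiplicative.ofAdd ((k : ℤ) : ZMod a), ?_⟩
  simp only [f0, AddMonoidHom.toMultiplicativeLeft_apply_apply, toAdd_ofAdd, ZMod.lift_coe, zmultiplesHom_apply]
  exact Subtype.ext (by simpa using hk)

/-- A multiplier is transported along an isomorphism. -/
theorem hasSchur_of_equiv {H : Type u} [Group H] (e : H ≃* G) {A : Type*} [CommGroup A]
    (h : Cfsg.HasSchurMultiplier H A) : Cfsg.HasSchurMultiplier G A := by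
  obtain ⟨⟨Γ, hΓ, hf, σ, hσ, ⟨i⟩⟩, hu⟩ := h
  refine ⟨⟨Γ, hΓ, hf, e.toMonoidHom.comp σ, ?_, ⟨?_⟩⟩, fun Δ _ _ τ hτ => ?_⟩
  · have hk : (e.toMonoidHom.comp σ).ker = σ.ker := MonoidHom.ker_mulEquiv_comp _ e
    exact ⟨e.surjective.comp hσ.1, hk ▸ hσ.2.1, hk ▸ hσ.2.2⟩
  · exact (MulEquiv.subgroupCongr (MonoidHom.ker_mulEquiv_comp σ e)).trans i
  · have hk : (e.symm.toMonoidHom.comp τ).ker = τ.ker := MonoidHom.ker_mulEquiv_comp _ e.symm
    obtain ⟨π, hπ⟩ := hu Δ (e.symm.toMonoidHom.comp τ)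
      ⟨e.symm.surjective.comp hτ.1, hk ▸ hτ.2.1, hk ▸ hτ.2.2⟩
    exact ⟨(MulEquiv.subgroupCongr hk).toMonoidHom.comp π, (MulEquiv.subgroupCongr hk).surjective.comp hπ⟩

end CfsgLib.CentralCert
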