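/-
Faster forms of the tests: table-driven rewriting and packed sums.
-/
import Cfsg.Agent.CentralCert.Upper

set_option autoImplicit false

namespace CfsgLib.CentralCert

open CfsgLib.ExtCert

/-- The packing base for sums. -/
def sumBase (k : ℕ) : ℤ := ((2 ^ (256 * k) : ℕ) : ℤ)

/-- The sum of the absolute values of the coefficients. -/
def absSum : ZForm → ℕ
  | [] => 0
  | e :: f => e.2.natAbs + absSum f

/-- The packed value. -/
def packedVal : ZForm → ℤ
  | [] => 0
  | e :: f => e.2 * sumBase e.1 + packedVal f

/-- The test for a form to vanish identically, by one packed number. -/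
def zeroF (n : ℕ) (f : ZForm) : Bool :=
  f.all (fun e => Nat.blt e.1 n) && Nat.blt (absSum f) (2 ^ 255) && decide (packedVal f = 0)

theorem packedVal_eq : ∀ f : ZForm, packedVal f = lval sumBase f := by
  intro f
  induction f with
  | nil => simp [packedVal]
  | cons e f ih => rw [packedVal, ih, lval_cons, smul_eq_mul]

theorem acc_natAbs_le (k : ℕ) : ∀ f : ZForm, (acc k f).natAbs ≤ absSum f := by
  intro f
  induction f with
  | nil => simp [acc, absSum]
  | cons e f ih =>
    simp only [acc, absSum]
    split_ifs <;> omega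

theorem digits_zero {X : ℤ} : ∀ (n : ℕ) (a : ℕ → ℤ), (∀ k < n, |a k| < X) →
    ∑ k ∈ Finset.range n, a k * X ^ k = 0 → ∀ k < n, a k = 0 := by
  intro n
  induction n with
  | zero => intros; omega
  | succ n ih =>
    intro a hb hs
    rw [Finset.sum_range_succ'] at hs
    simp only [pow_zero, mul_one, pow_succ, ← mul_assoc, ← Finset.sum_mul] at hs
    have hX : 0 < X := lt_of_le_of_lt (abs_nonneg _) (hb 0 (by omega))
    have hdvd : X ∣ a 0 := ⟨-(∑ k ∈ Finset.range n, a (k + 1) * X ^ k), by linarith⟩
    have h0 : a 0 = 0 := Int.eq_zero_of_abs_lt_dvd hdvd (hb 0 (by omega))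
    rw [h0, add_zero] at hs
    have hrest := (mul_eq_zero.mp hs).resolve_right (ne_of_gt hX)
    intro k hk
    rcases k with _ | k
    · exact h0
    · exact ih (fun k => a (k + 1)) (fun j hj => hb (j + 1) (by omega)) hrest k (by omega)

theorem zeroOK_of_zeroF {n : ℕ} {f : ZForm} (h : zeroF n f = true) : zeroOK n f = true := by
  simp only [zeroF, Bool.and_eq_true, List.all_eq_true, Nat.blt_eq, decide_eq_true_eq] at h
  obtain ⟨⟨hidx, hsum⟩, hz⟩ := h
  have hkey : ∀ k < n, acc k f = 0 := by
    refine digits_zero (X := 2 ^ 256) n (fun k => acc k f) (fun k _ => ?_) ?_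
    · have h1 := acc_natAbs_le k f
      rw [← Int.natCast_natAbs]
      have h2 : (acc k f).natAbs < 2 ^ 256 :=
        lt_of_le_of_lt h1 (hsum.trans (Nat.pow_lt_pow_right (by norm_num) (by norm_num)))
      exact_mod_cast h2
    · rw [packedVal_eq, lval_eq_sum sumBase f hidx] at hz
      refine Eq.trans (Finset.sum_congr rfl fun k _ => ?_) hz
      rw [smul_eq_mul, sumBase, pow_mul]
      push_cast
      rfl
  simp only [zeroOK, Bool.and_eq_true, List.all_eq_true, Nat.blt_eq, decide_eq_true_eq, List.mem_range]
  exact ⟨hidx, hkey⟩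

/-- Position of the first descent or full run, with the index of its relation in a table. -/
def findF (tbl : List (List ℕ)) (p : ℕ) : List ℕ → List ℕ → Option (ℕ × List ℕ × List ℕ)
  | _, [] => none
  | pre, a :: w =>
    match w with
    | [] => if (List.replicate p a).isPrefixOf [a] then some ((tbl.getD a []).getD a 0, pre.reverse, []) else none
    | b :: u =>
      if Nat.blt b a then some ((tbl.getD a []).getD b 0, pre.reverse, u)
      else if (List.replicate p a).isPrefixOf (a :: b :: u) then
        some ((tbl.getD a []).getD a 0, pre.reverse, (a :: b :: u).drop p)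
      else findF tbl p (a :: pre) (b :: u)

/-- Rewriting driven by the table. -/
def collectF (rels : List (List ℕ × List ℕ)) (tbl : List (List ℕ)) (p : ℕ) : ℕ → List ℕ → List ℕ × ZForm
  | 0, w => (w, [])
  | fuel + 1, w =>
    match findF tbl p [] w with
    | none => (w, [])
    | some (k, pre, suf) =>
      if k < rels.length ∧ w = pre ++ (rels.getD k ([], [])).1 ++ suf then
        let r := collectF rels tbl p fuel (pre ++ (rels.getD k ([], [])).2 ++ suf)
        (r.1, r.2 ++ [(k, 1)])
      else (w, [])

theorem rew_collectF (rels : List (List ℕ × List ℕ)) (tbl : List (List ℕ)) (p : ℕ) : ∀ (n : ℕ) (w : List ℕ),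
    Rew rels w (collectF rels tbl p n w).1 (collectF rels tbl p n w).2 := by
  intro n
  induction n with
  | zero => exact fun w => .refl _
  | succ n ih =>
    intro w
    rw [collectF]
    split
    · exact .refl _
    · next k pre suf _ =>
      split
      · next hk =>
        obtain ⟨hk, rfl⟩ := hk
        exact (Rew.step hk (Rew.refl _)).trans (ih (pre ++ (rels.getD k ([], [])).2 ++ suf))
      · exact .refl _

/-- A form stored in one number: chunks of 192 bits, each a magnitude, a sign and an index. -/
def unpk : ℕ → ℕ → ZForm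
  | 0, _ => []
  | n + 1, x =>
    let c := x % 2 ^ 192
    (c % 2 ^ 12, if Nat.beq (c / 2 ^ 12 % 2) 0 then (Int.ofNat (c / 2 ^ 13)) else -(Int.ofNat (c / 2 ^ 13))) ::
      unpk n (x / 2 ^ 192)

/-- The packed values of rows with their coefficient sums. -/
def packRows (R : List ZForm) : List (ℤ × ℕ) := R.map fun f => (packedVal f, absSum f)

/-- The packed value and coefficient sum of a combination of packed rows. -/
def combVal (P : List (ℤ × ℕ)) : ZForm → ℤ × ℕ
  | [] => (0, 0)
  | e :: f => let q := P.getD e.1 (0, 0); let r := combVal P f; (e.2 * q.1 + r.1, e.2.natAbs * q.2 + r.2)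

theorem packedVal_append : ∀ f g : ZForm, packedVal (f ++ g) = packedVal f + packedVal g := by
  intro f g
  rw [packedVal_eq, packedVal_eq, packedVal_eq, lval_append]

theorem absSum_append : ∀ f g : ZForm, absSum (f ++ g) = absSum f + absSum g := by
  intro f g
  induction f with
  | nil => simp [absSum]
  | cons e f ih => simp only [List.cons_append, absSum, ih]; omega

theorem absSum_scale (c : ℤ) : ∀ f : ZForm, absSum (scale c f) = c.natAbs * absSum f := by
  intro f
  induction f with
  | nil => simp [absSum, scale]
  | cons e f ih =>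
    rw [scale, List.map_cons, ← scale]
    simp only [absSum, ih, Int.natAbs_mul]
    ring

theorem packedVal_scale (c : ℤ) (f : ZForm) : packedVal (scale c f) = c * packedVal f := by
  rw [packedVal_eq, packedVal_eq, lval_scale, smul_eq_mul]

theorem combVal_spec (R : List ZForm) : ∀ f : ZForm,
    (combVal (packRows R) f).1 = packedVal (subst R f) ∧ (combVal (packRows R) f).2 = absSum (subst R f) := by
  intro f
  induction f with
  | nil => simp [combVal, subst, packedVal, absSum]
  | cons e f ih =>
    have hd : subst R (e :: f) = scale e.2 (R.getD e.1 []) ++ subst R f := rfl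
    have hq : (packRows R).getD e.1 (0, 0) = (packedVal (R.getD e.1 []), absSum (R.getD e.1 [])) := by
      simp only [packRows, List.getD_eq_getElem?_getD, List.getElem?_map]
      cases R[e.1]? <;> rfl
    simp only [combVal, hq, hd, packedVal_append, absSum_append, packedVal_scale, absSum_scale, ih.1, ih.2,
      and_self]

/-- All indices in all rows are small. -/
def idxOK (n : ℕ) (R : List ZForm) : Bool := R.all fun f => f.all fun e => Nat.blt e.1 n

theorem idx_subst {n : ℕ} {R : List ZForm} (h : idxOK n R = true) (f : ZForm) :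
    ∀ e ∈ subst R f, e.1 < n := by
  intro e he
  simp only [subst, List.mem_flatMap] at he
  obtain ⟨q, -, he⟩ := he
  obtain ⟨e', he', rfl⟩ := List.mem_map.mp he
  rcases Nat.lt_or_ge q.1 R.length with hq | hq
  · rw [List.getD_eq_getElem _ _ hq] at he'
    simp only [idxOK, List.all_eq_true, Nat.blt_eq] at h
    exact h _ (List.getElem_mem _) e' he'
  · rw [List.getD_eq_default _ _ hq] at he'
    simp at he'

/-- An entry of a table of rules. -/
def lookT (T : List (List (ℕ × List ℕ))) (N a b : ℕ) : ℕ × List ℕ := (T.getD a []).getD b (N, [])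

/-- Moves the top of a stack back. -/
def unshift : ℕ → List ℕ → List ℕ → List ℕ × List ℕ
  | n + 1, a :: L, R => unshift n L (a :: R)
  | _, L, R => (L, R)

theorem unshift_eq : ∀ (n : ℕ) (L R : List ℕ),
    (unshift n L R).1.reverseAux (unshift n L R).2 = L.reverseAux R := by
  intro n
  induction n with
  | zero => intro L R; rfl
  | succ n ih =>
    intro L R
    cases L with
    | nil => rfl
    | cons a L => rw [unshift, ih]; rfl

/-- Rewriting by a table, with the scanned part on a stack. -/
def collectZ (T : List (List (ℕ × List ℕ))) (N p : ℕ) :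
    ℕ → List ℕ → List ℕ → ZForm → List ℕ × ZForm
  | 0, L, R, acc => (L.reverseAux R, acc)
  | _ + 1, L, [], acc => (L.reverseAux [], acc)
  | fuel + 1, L, a :: u, acc =>
    match u with
    | b :: v =>
      if Nat.blt b a then
        let e := lookT T N a b
        if Nat.blt e.1 N then
          let q := unshift (p - 1) L (e.2 ++ v)
          collectZ T N p fuel q.1 q.2 ((e.1, 1) :: acc)
        else (L.reverseAux (a :: b :: v), acc)
      else if (List.replicate p a).isPrefixOf (a :: b :: v) then
        let e := lookT T N a a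
        if Nat.blt e.1 N then
          let q := unshift (p - 1) L (e.2 ++ (a :: b :: v).drop p)
          collectZ T N p fuel q.1 q.2 ((e.1, 1) :: acc)
        else (L.reverseAux (a :: b :: v), acc)
      else collectZ T N p fuel (a :: L) (b :: v) acc
    | [] => (L.reverseAux [a], acc)

/-- The test that the table lists relations. -/
def tabOK (rels : List (List ℕ × List ℕ)) (T : List (List (ℕ × List ℕ))) (p : ℕ) : Bool :=
  (List.range T.length).all fun a => (List.range (T.getD a []).length).all fun b =>
    let e := lookT T rels.length a b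
    !(Nat.blt e.1 rels.length) || Nat.blt a b ||
      decide (rels.getD e.1 ([], []) = (if a = b then List.replicate p a else [a, b], e.2))

theorem lookT_spec {rels : List (List ℕ × List ℕ)} {T : List (List (ℕ × List ℕ))} {p : ℕ}
    (h : tabOK rels T p = true) {a b : ℕ} (hab : b ≤ a) (hk : (lookT T rels.length a b).1 < rels.length) :
    rels.getD (lookT T rels.length a b).1 ([], []) =
      (if a = b then List.replicate p a else [a, b], (lookT T rels.length a b).2) := by
  simp only [tabOK, List.all_eq_true, List.mem_range, Bool.or_eq_true, Bool.not_eq_true', decide_eq_true_eq,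
    Nat.blt_eq] at h
  rcases Nat.lt_or_ge a T.length with ha | ha
  · rcases Nat.lt_or_ge b (T.getD a []).length with hb | hb
    · rcases h a ha b hb with (h' | h') | h'
      · rw [← Bool.not_eq_true, Nat.blt_eq] at h'; omega
      · omega
      · exact h'
    · rw [lookT, List.getD_eq_default _ _ hb] at hk; simp at hk
  · rw [lookT, List.getD_eq_default _ _ ha] at hk; simp at hk

theorem step_at {rels : List (List ℕ × List ℕ)} {w : List ℕ} {f : ZForm} {k : ℕ} {l r : List ℕ}
    (he : rels.getD k ([], []) = (l, r)) (hk : k < rels.length) (L v : List ℕ)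
    (h : Rew rels w (L.reverseAux (l ++ v)) f) : Rew rels w (L.reverseAux (r ++ v)) ((k, 1) :: f) := by
  rw [List.reverseAux_eq, ← List.append_assoc] at h ⊢
  have := Rew.step (rels := rels) (w := w) (pre := L.reverse) (suf := v) (k := k) (f := f) hk (by rw [he]; exact h)
  rwa [he] at this

theorem rew_collectZ {rels : List (List ℕ × List ℕ)} {T : List (List (ℕ × List ℕ))} {p : ℕ}
    (hT : tabOK rels T p = true) : ∀ (n : ℕ) (w L R : List ℕ) (acc : ZForm),
    Rew rels w (L.reverseAux R) acc →
    Rew rels w (collectZ T rels.length p n L R acc).1 (collectZ T rels.length p n L R acc).2 := by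
  intro n
  induction n with
  | zero => intro w L R acc h; exact h
  | succ n ih =>
    intro w L R acc h
    rcases R with _ | ⟨a, _ | ⟨b, v⟩⟩
    · exact h
    · exact h
    · rw [collectZ]
      dsimp only
      split_ifs with h1 h2 h3 h4
      · rw [Nat.blt_eq] at h1 h2
        have he := lookT_spec hT (Nat.le_of_lt h1) h2
        rw [if_neg (by omega)] at he
        exact ih _ _ _ _ (by rw [unshift_eq]; exact step_at he h2 L v h)
      · exact h
      · rw [Nat.blt_eq] at h4
        have he := lookT_spec hT (le_refl a) h4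
        rw [if_pos rfl] at he
        obtain ⟨t, ht⟩ := List.isPrefixOf_iff_prefix.mp h3
        have hd : (a :: b :: v).drop p = t := by rw [← ht, List.drop_left' (List.length_replicate)]
        exact ih _ _ _ _ (by rw [unshift_eq, hd]; exact step_at he h4 L t (by rw [ht]; exact h))
      · exact h
      · exact ih _ _ _ _ h

/-- Rewriting of a word from its start. -/
def collectW (T : List (List (ℕ × List ℕ))) (N p : ℕ) (w : List ℕ) : List ℕ × ZForm :=
  collectZ T N p 100000 [] w []

theorem rew_collectW {rels : List (List ℕ × List ℕ)} {T : List (List (ℕ × List ℕ))} {p : ℕ}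
    (hT : tabOK rels T p = true) (w : List ℕ) :
    Rew rels w (collectW T rels.length p w).1 (collectW T rels.length p w).2 :=
  rew_collectZ hT _ w [] w [] (.refl w)

namespace Upper

variable (D : Upper) (tbl : List (List ℕ)) (p : ℕ)

/-- Every tail is a combination of the section and the conditions, with no classes left. -/
def identP (PS PK : List (ℤ × ℕ)) : Bool :=
  Nat.beq D.e.length 0 && idxOK D.rels.length D.K && idxOK D.rels.length D.sec &&
    (List.range D.rels.length).all fun k =>
      let s := combVal PS (D.C.getD k [])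
      let t := combVal PK (D.sels.getD k [])
      Nat.blt (1 + s.2 + t.2) (2 ^ 255) && decide (sumBase k - s.1 + t.1 = 0)

/-- The check of a recorded consistency condition. -/
def consOKF (c : List ℕ × ℕ) (f : ZForm) : Bool :=
  let A := collectF D.rels tbl p fuel (c.1 ++ (D.rels.getD c.2 ([], [])).1)
  let B := collectF D.rels tbl p fuel (c.1 ++ (D.rels.getD c.2 ([], [])).2)
  Nat.blt c.2 D.rels.length && decide (A.1 = B.1) && zeroF D.rels.length (A.2 ++ negF B.2 ++ [(c.2, -1)] ++ negF f)

/-- The check of a recorded fusion condition. -/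
def fusOKF (u : Fus) (f : ZForm) : Bool :=
  let A := collectF D.rels tbl p fuel (flat u.U u.l)
  let B := collectF D.rels tbl p fuel (flat u.U u.r)
  let A' := collectF D.rels tbl p fuel (flat u.U' u.l)
  let B' := collectF D.rels tbl p fuel (flat u.U' u.r)
  decide (A.1 = B.1) && decide (A'.1 = B'.1) && sameCnt u.U.length u.l u.r &&
    zeroF D.rels.length (A'.2 ++ negF B'.2 ++ negF A.2 ++ B.2 ++ negF f)

/-- The recorded conditions are derived ones. -/
def kOKF : Bool :=
  Nat.beq (D.cons.length + D.fus.length) D.K.length &&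
    (D.cons.zip (D.K.take D.cons.length)).all (fun e => D.consOKF tbl p e.1 e.2) &&
    (D.fus.zip (D.K.drop D.cons.length)).all fun e => D.fusOKF tbl p e.1 e.2

/-- Every tail is a combination of the section and the chosen classes. -/
def identF : Bool :=
  ((List.range D.rels.length).all fun k => zeroF D.rels.length
    ([(k, 1)] ++ negF (subst D.sec (D.C.getD k [])) ++ negF (subst D.e (D.A.getD k [])) ++
      subst D.K (D.sels.getD k []))) &&
  (List.range D.e.length).all fun i => zeroF D.rels.length
    (scale (D.d.getD i 0 : ℤ) (D.e.getD i []) ++ subst D.K (D.dsels.getD i []))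

theorem identOK_of_identF (h : D.identF = true) : D.identOK = true := by
  simp only [identF, Bool.and_eq_true, List.all_eq_true] at h
  simp only [identOK, Bool.and_eq_true, List.all_eq_true]
  exact ⟨fun k hk => zeroOK_of_zeroF (h.1 k hk), fun i hi => zeroOK_of_zeroF (h.2 i hi)⟩

theorem identOK_of_identP {PS PK : List (ℤ × ℕ)} (hS : packRows D.sec = PS) (hK : packRows D.K = PK)
    (h : D.identP PS PK = true) : D.identOK = true := by
  subst hS hK
  simp only [identP, Bool.and_eq_true, Nat.beq_eq, List.all_eq_true, Nat.blt_eq, decide_eq_true_eq,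
    List.mem_range] at h
  obtain ⟨⟨⟨he, hiK⟩, hiS⟩, hrows⟩ := h
  have he' : D.e = [] := List.eq_nil_of_length_eq_zero he
  simp only [identOK, Bool.and_eq_true, List.all_eq_true, List.mem_range]
  refine ⟨fun k hk => zeroOK_of_zeroF ?_, fun i hi => by omega⟩
  obtain ⟨hb, hv⟩ := hrows k hk
  rw [(combVal_spec D.sec _).1, (combVal_spec D.K _).1] at hv
  rw [(combVal_spec D.sec _).2, (combVal_spec D.K _).2] at hb
  have hsub : ∀ f, subst ([] : List ZForm) f = [] := fun f => by
    induction f with
    | nil => rfl
    | cons e f ih => rw [show subst ([] : List ZForm) (e :: f) = scale e.2 [] ++ subst [] f from rfl, ih]; rfl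
  simp only [zeroF, Bool.and_eq_true, List.all_eq_true, Nat.blt_eq, decide_eq_true_eq, he', hsub]
  refine ⟨⟨fun e hem => ?_, ?_⟩, ?_⟩
  · simp only [negF, scale, List.mem_append, List.mem_map, List.mem_singleton, List.map_nil,
      List.append_nil] at hem
    rcases hem with (rfl | ⟨e', he'', rfl⟩) | hem
    · exact hk
    · exact idx_subst hiS _ e' he''
    · exact idx_subst hiK _ e hem
  · simp only [negF, absSum_append, absSum_scale, absSum]
    simpa [absSum, scale] using hb
  · simp only [negF, packedVal_append, packedVal_scale, packedVal]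
    linarith [hv]

theorem derived_of_kOKF (h : D.kOKF tbl p = true) : ∀ f ∈ D.K, D.Derived f := by
  simp only [kOKF, Bool.and_eq_true, Nat.beq_eq, List.all_eq_true] at h
  obtain ⟨⟨hlen, hc⟩, hf⟩ := h
  intro f hm
  obtain ⟨i, hi, rfl⟩ := List.mem_iff_getElem.mp hm
  rcases Nat.lt_or_ge i D.cons.length with h' | h'
  · have hi' : i < (D.cons.zip (D.K.take D.cons.length)).length := by simp; omega
    have := hc _ (List.getElem_mem hi')
    simp only [List.getElem_zip, List.getElem_take, consOKF, Bool.and_eq_true, Nat.blt_eq, decide_eq_true_eq] at this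
    obtain ⟨⟨hk, hAB⟩, hz⟩ := this
    exact Or.inl ⟨_, _, _, _, _, hk, rew_collectF _ tbl p fuel _, hAB ▸ rew_collectF _ tbl p fuel _,
      zeroOK_of_zeroF hz⟩
  · obtain ⟨j, rfl⟩ : ∃ j, i = D.cons.length + j := ⟨i - D.cons.length, by omega⟩
    have hi' : j < (D.fus.zip (D.K.drop D.cons.length)).length := by simp; omega
    have := hf _ (List.getElem_mem hi')
    simp only [List.getElem_zip, List.getElem_drop, fusOKF, Bool.and_eq_true, decide_eq_true_eq] at this
    obtain ⟨⟨⟨hAB, hAB'⟩, hcnt⟩, hz⟩ := this
    exact Or.inr ⟨_, List.getElem_mem _, _, _, _, _, _, _, hcnt, rew_collectF _ tbl p fuel _,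
      hAB ▸ rew_collectF _ tbl p fuel _, rew_collectF _ tbl p fuel _, hAB' ▸ rew_collectF _ tbl p fuel _,
      zeroOK_of_zeroF hz⟩

/-- The check of a consistency condition by a table of rules. -/
def consOKZ (T : List (List (ℕ × List ℕ))) (c : List ℕ × ℕ) (f : ZForm) : Bool :=
  let N := D.rels.length
  let e := D.rels.getD c.2 ([], [])
  let A := collectW T N p (c.1 ++ e.1)
  let B := collectW T N p (c.1 ++ e.2)
  Nat.blt c.2 N && decide (A.1 = B.1) && zeroF N (A.2 ++ negF B.2 ++ [(c.2, -1)] ++ negF f)

/-- The check of a fusion condition by a table of rules. -/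
def fusOKZ (T : List (List (ℕ × List ℕ))) (u : Fus) (f : ZForm) : Bool :=
  let N := D.rels.length
  let A := collectW T N p (flat u.U u.l)
  let B := collectW T N p (flat u.U u.r)
  let A' := collectW T N p (flat u.U' u.l)
  let B' := collectW T N p (flat u.U' u.r)
  decide (A.1 = B.1) && decide (A'.1 = B'.1) && sameCnt u.U.length u.l u.r &&
    zeroF N (A'.2 ++ negF B'.2 ++ negF A.2 ++ B.2 ++ negF f)

/-- The recorded conditions between two positions are derived ones. -/
def kOKZ (T : List (List (ℕ × List ℕ))) (lo len : ℕ) : Bool :=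
  (List.range' lo len).all fun i =>
    if Nat.blt i D.cons.length then D.consOKZ p T (D.cons.getD i ([], 0)) (D.K.getD i [])
    else
      let j := i - D.cons.length
      Nat.blt j D.fus.length && D.fusOKZ p T (D.fus.getD j ⟨[], [], [], [], []⟩) (D.K.getD i [])

theorem kOKZ_spec {T : List (List (ℕ × List ℕ))} (hT : tabOK D.rels T p = true) {lo len : ℕ}
    (h : D.kOKZ p T lo len = true) {i : ℕ} (hlo : lo ≤ i) (hhi : i < lo + len) (hi : i < D.K.length) :
    D.Derived (D.K[i]) := by
  simp only [kOKZ, List.all_eq_true] at h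
  have hm := h i (List.mem_range'_1.mpr ⟨hlo, hhi⟩)
  rw [List.getD_eq_getElem _ _ hi] at hm
  split at hm
  · simp only [consOKZ, Bool.and_eq_true, Nat.blt_eq, decide_eq_true_eq] at hm
    obtain ⟨⟨hk, hAB⟩, hz⟩ := hm
    exact Or.inl ⟨_, _, _, _, _, hk, rew_collectW hT _, hAB ▸ rew_collectW hT _, zeroOK_of_zeroF hz⟩
  · simp only [fusOKZ, Bool.and_eq_true, Nat.blt_eq, decide_eq_true_eq] at hm
    obtain ⟨hj, ⟨⟨hAB, hAB'⟩, hcnt⟩, hz⟩ := hm
    rw [List.getD_eq_getElem _ _ hj] at hAB hAB' hcnt hz
    exact Or.inr ⟨_, List.getElem_mem hj, _, _, _, _, _, _, hcnt, rew_collectW hT _,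
      hAB ▸ rew_collectW hT _, rew_collectW hT _, hAB' ▸ rew_collectW hT _, zeroOK_of_zeroF hz⟩

theorem derived_of_kOKZ {T : List (List (ℕ × List ℕ))} (hT : tabOK D.rels T p = true) {lo : ℕ}
    (h : D.kOKZ p T 0 lo = true) (h' : D.kOKZ p T lo (D.K.length - lo) = true) :
    ∀ f ∈ D.K, D.Derived f := by
  intro f hm
  obtain ⟨i, hi, rfl⟩ := List.mem_iff_getElem.mp hm
  rcases Nat.lt_or_ge i lo with h1 | h1
  · exact D.kOKZ_spec p hT h (Nat.zero_le _) (by omega) hi
  · exact D.kOKZ_spec p hT h' h1 (by omega) hi

end Upper

end CfsgLib.CentralCert
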