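/-
Matrices over a small coded field, each packed into one number.
-/
import Cfsg.Agent.CentralCert.Basic

set_option autoImplicit false

namespace CfsgLib.CentralCert

open CfsgLib.ExtCert

/-- Codes for the elements of a field with the operations on codes. -/
structure FieldCode (F : Type*) [Field F] where
  q : ℕ
  add : ℕ → ℕ → ℕ
  mul : ℕ → ℕ → ℕ
  code : F → ℕ
  code_lt : ∀ x, code x < q
  code_inj : Function.Injective code
  code_zero : code 0 = 0
  code_one : code 1 = 1
  code_add : ∀ x y, code (x + y) = add (code x) (code y)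
  code_mul : ∀ x y, code (x * y) = mul (code x) (code y)

/-- Digits packed into one number. -/
def packN (q : ℕ) : ℕ → (ℕ → ℕ) → ℕ
  | 0, _ => 0
  | n + 1, f => forceN (packN q n fun k => f (k + 1)) fun r => forceN (f 0) fun a => a + q * r

/-- A digit of a packed number. -/
def digit (q X k : ℕ) : ℕ := X / q ^ k % q

theorem digit_packN {q : ℕ} (hq : 0 < q) : ∀ (n : ℕ) (f : ℕ → ℕ), (∀ k < n, f k < q) →
    ∀ k < n, digit q (packN q n f) k = f k := by
  intro n
  induction n with
  | zero => intro f _ k hk; omega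
  | succ n ih =>
    intro f hf k hk
    simp only [packN, forceN_eq]
    rcases k with _ | k
    · simp [digit, Nat.add_mul_mod_self_left, Nat.mod_eq_of_lt (hf 0 (by omega))]
    · have h := ih (fun j => f (j + 1)) (fun j hj => hf (j + 1) (by omega)) k (by omega)
      rw [digit, pow_succ', ← Nat.div_div_eq_div_mul, Nat.add_mul_div_left _ _ hq,
        Nat.div_eq_of_lt (hf 0 (by omega)), zero_add]
      exact h

theorem packN_congr {q : ℕ} : ∀ (n : ℕ) (f g : ℕ → ℕ), (∀ k < n, f k = g k) → packN q n f = packN q n g := by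
  intro n
  induction n with
  | zero => intros; rfl
  | succ n ih =>
    intro f g h
    simp only [packN, forceN_eq]
    rw [ih _ _ fun k hk => h (k + 1) (by omega), h 0 (by omega)]

/-- The product of two packed matrices. -/
def mmul (n q : ℕ) (add mul : ℕ → ℕ → ℕ) (X Y : ℕ) : ℕ :=
  forceN X fun X => forceN Y fun Y => packN q (n * n) fun k =>
    (List.range n).foldr (fun j r => add (mul (digit q X (k / n * n + j)) (digit q Y (j * n + k % n))) r) 0

namespace FieldCode

variable {F : Type*} [Field F] (c : FieldCode F) {n : ℕ}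

theorem code_sum (f : ℕ → F) : ∀ l : List ℕ,
    c.code (l.map f).sum = l.foldr (fun j r => c.add (c.code (f j)) r) 0 := by
  intro l
  induction l with
  | nil => simp [c.code_zero]
  | cons a l ih => simp [c.code_add, ih]

/-- The code of a matrix. -/
def mcode (M : Matrix (Fin n) (Fin n) F) : ℕ :=
  packN c.q (n * n) fun k =>
    if h : k / n < n ∧ k % n < n then c.code (M ⟨k / n, h.1⟩ ⟨k % n, h.2⟩) else 0

theorem digit_mcode (M : Matrix (Fin n) (Fin n) F) (i j : Fin n) :
    digit c.q (c.mcode M) (i.1 * n + j.1) = c.code (M i j) := by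
  have hq : 0 < c.q := (Nat.zero_le _).trans_lt (c.code_lt 0)
  have hn : 0 < n := i.pos
  have h1 : (i.1 * n + j.1) / n = i.1 := by
    rw [Nat.add_comm, Nat.add_mul_div_right _ _ hn, Nat.div_eq_of_lt j.2, zero_add]
  have h2 : (i.1 * n + j.1) % n = j.1 := by
    rw [Nat.add_comm, Nat.add_mul_mod_self_right, Nat.mod_eq_of_lt j.2]
  rw [mcode, digit_packN hq _ _ (fun k _ => by split <;> [exact c.code_lt _; exact hq]) _ (by
    calc i.1 * n + j.1 < i.1 * n + n := by omega
      _ = (i.1 + 1) * n := by ring
      _ ≤ n * n := Nat.mul_le_mul_right _ i.2)]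
  simp only [h1, h2, i.2, j.2, and_self, dite_true]

theorem mcode_injective : Function.Injective (c.mcode (n := n)) := fun M N h => Matrix.ext fun i j =>
  c.code_inj (by rw [← digit_mcode, ← digit_mcode, h])

theorem mcode_one : c.mcode (1 : Matrix (Fin n) (Fin n) F) = packN c.q (n * n) (fun k => if k / n = k % n then 1 else 0) :=
  packN_congr _ _ _ fun k hk => by
    have hn : 0 < n := Nat.pos_of_ne_zero fun h => by subst h; simp at hk
    have h1 : k / n < n := Nat.div_lt_of_lt_mul hk
    have h2 : k % n < n := Nat.mod_lt _ hn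
    rw [dif_pos ⟨h1, h2⟩, Matrix.one_apply]
    by_cases h : k / n = k % n
    · rw [if_pos (Fin.ext h), if_pos h, c.code_one]
    · rw [if_neg (fun e => h (congrArg Fin.val e)), if_neg h, c.code_zero]

theorem mcode_mul (M N : Matrix (Fin n) (Fin n) F) :
    c.mcode (M * N) = mmul n c.q c.add c.mul (c.mcode M) (c.mcode N) := by
  simp only [mmul, forceN_eq]
  refine packN_congr _ _ _ fun k hk => ?_
  have hn : 0 < n := Nat.pos_of_ne_zero fun h => by subst h; simp at hk
  have h1 : k / n < n := Nat.div_lt_of_lt_mul hk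
  have h2 : k % n < n := Nat.mod_lt _ hn
  rw [dif_pos ⟨h1, h2⟩, Matrix.mul_apply]
  let f : ℕ → F := fun j => if h : j < n then M ⟨k / n, h1⟩ ⟨j, h⟩ * N ⟨j, h⟩ ⟨k % n, h2⟩ else 0
  rw [show ∑ x, M ⟨k / n, h1⟩ x * N x ⟨k % n, h2⟩ = ((List.range n).map f).sum by
    rw [← List.sum_toFinset _ List.nodup_range, List.toFinset_range, ← Fin.sum_univ_eq_sum_range f]
    simp [f], c.code_sum]
  refine List.foldr_ext _ _ _ fun j hj r => ?_
  have hj' : j < n := List.mem_range.mp hj
  simp only [f, dif_pos hj', c.code_mul]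
  have e1 := c.digit_mcode M ⟨k / n, h1⟩ ⟨j, hj'⟩
  have e2 := c.digit_mcode N ⟨j, hj'⟩ ⟨k % n, h2⟩
  rw [e1, e2]

/-- The model of a group mapped injectively into matrices. -/
def model {G : Type*} [Group G] (φ : G →* Matrix (Fin n) (Fin n) F) (hφ : Function.Injective φ) : Model G ℕ where
  enc x := c.mcode (φ x)
  one := packN c.q (n * n) (fun k => if k / n = k % n then 1 else 0)
  mul := mmul n c.q c.add c.mul
  inj := c.mcode_injective.comp hφ
  enc_one := by rw [map_one, mcode_one]
  enc_mul x y := by rw [map_mul, mcode_mul]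

end FieldCode

end CfsgLib.CentralCert
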