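/-
Codes for a field with eight elements.
-/
import Cfsg.Agent.CentralCert.MatModel

set_option autoImplicit false

namespace CfsgLib.CentralCert.FEight

/-- Addition of codes. -/
def add8 (a b : ℕ) : ℕ := (a % 2 + b % 2) % 2 + 2 * ((a / 2 % 2 + b / 2 % 2) % 2) + 4 * ((a / 4 % 2 + b / 4 % 2) % 2)

/-- Multiplication of codes modulo `x³ + x + 1`. -/
def mul8 (a b : ℕ) : ℕ :=
  ((a % 2) * (b % 2) + (a / 2 % 2) * (b / 4 % 2) + (a / 4 % 2) * (b / 2 % 2)) % 2 +
  2 * (((a % 2) * (b / 2 % 2) + (a / 2 % 2) * (b % 2) + (a / 2 % 2) * (b / 4 % 2) +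
      (a / 4 % 2) * (b / 2 % 2) + (a / 4 % 2) * (b / 4 % 2)) % 2) +
  4 * (((a % 2) * (b / 4 % 2) + (a / 2 % 2) * (b / 2 % 2) + (a / 4 % 2) * (b % 2) +
      (a / 4 % 2) * (b / 4 % 2)) % 2)

variable {F : Type*} [Field F]

/-- The element with a given code. -/
def dec (ω : F) (a : ℕ) : F := ((a % 2 : ℕ) : F) + ((a / 2 % 2 : ℕ) : F) * ω + ((a / 4 % 2 : ℕ) : F) * ω ^ 2

theorem exists_root [Fintype F] (hF : Fintype.card F = 8) : ∃ ω : F, ω ^ 3 + ω + 1 = 0 := by
  classical
  by_contra hc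
  simp only [not_exists] at hc
  have h2 : (2 : F) = 0 := by
    have h := FiniteField.cast_card_eq_zero F
    rw [hF] at h
    have : (2 : F) ^ 3 = 0 := by rw [← h]; norm_num
    simpa using this
  open Polynomial in
  let p : F[X] := (X ^ 3 + X ^ 2 + 1) * (X ^ 2 + X)
  have hsub : (Finset.univ : Finset F) ⊆ p.roots.toFinset := by
    intro x _
    have h8 : x ^ 8 = x := hF ▸ FiniteField.pow_card x
    have hz : ((x ^ 3 + x ^ 2 + 1) * (x ^ 2 + x)) * (x ^ 3 + x + 1) = 0 := by
      linear_combination h8 + (x + x ^ 2 + x ^ 3 + 2 * x ^ 4 + 2 * x ^ 5 + x ^ 6 + x ^ 7) * h2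
    rw [Multiset.mem_toFinset, Polynomial.mem_roots']
    refine ⟨?_, ?_⟩
    · intro h0
      have h := congrArg (Polynomial.eval 1) h0
      have h' : Polynomial.coeff p 5 = 1 := by
        simp [p, mul_add, add_mul, Polynomial.coeff_X, Polynomial.coeff_X_pow, ← pow_add, ← pow_succ,
          ← pow_succ']
      rw [h0] at h'
      simp at h'
    · simp only [p, Polynomial.IsRoot.def, Polynomial.eval_mul, Polynomial.eval_add, Polynomial.eval_pow,
        Polynomial.eval_X, Polynomial.eval_one]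
      exact (mul_eq_zero.mp hz).resolve_right (hc x)
  have h1 := Finset.card_le_card hsub
  have hdeg : p.natDegree ≤ 5 := by
    simp only [p]
    compute_degree
  have h2' := (Multiset.toFinset_card_le p.roots).trans ((Polynomial.card_roots' p).trans hdeg)
  rw [Finset.card_univ, hF] at h1
  omega

theorem two_eq_zero [Fintype F] (hF : Fintype.card F = 8) : (2 : F) = 0 := by
  have h := FiniteField.cast_card_eq_zero F
  rw [hF] at h
  have : (2 : F) ^ 3 = 0 := by rw [← h]; norm_num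
  simpa using this

theorem cast_mod_two [Fintype F] (hF : Fintype.card F = 8) (n : ℕ) : ((n % 2 : ℕ) : F) = (n : F) := by
  conv_rhs => rw [← Nat.mod_add_div n 2]
  rw [Nat.cast_add, Nat.cast_mul, Nat.cast_ofNat, two_eq_zero hF, zero_mul, add_zero]

theorem bits (x y z : ℕ) : (x % 2 + 2 * (y % 2) + 4 * (z % 2)) % 2 = x % 2 ∧
    (x % 2 + 2 * (y % 2) + 4 * (z % 2)) / 2 % 2 = y % 2 ∧
    (x % 2 + 2 * (y % 2) + 4 * (z % 2)) / 4 % 2 = z % 2 := by omega

theorem dec_add [Fintype F] (hF : Fintype.card F = 8) (ω : F) (a b : ℕ) :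
    dec ω (add8 a b) = dec ω a + dec ω b := by
  obtain ⟨e1, e2, e3⟩ := bits (a % 2 + b % 2) (a / 2 % 2 + b / 2 % 2) (a / 4 % 2 + b / 4 % 2)
  rw [dec, dec, dec, add8, e1, e2, e3, cast_mod_two hF (a % 2 + b % 2), cast_mod_two hF (a / 2 % 2 + b / 2 % 2),
    cast_mod_two hF (a / 4 % 2 + b / 4 % 2)]
  push_cast
  ring

theorem dec_mul [Fintype F] (hF : Fintype.card F = 8) {ω : F} (hω : ω ^ 3 + ω + 1 = 0) (a b : ℕ) :
    dec ω (mul8 a b) = dec ω a * dec ω b := by
  simp only [dec, mul8]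
  generalize a % 2 = a0
  generalize a / 2 % 2 = a1
  generalize a / 4 % 2 = a2
  generalize b % 2 = b0
  generalize b / 2 % 2 = b1
  generalize b / 4 % 2 = b2
  obtain ⟨e1, e2, e3⟩ := bits (a0 * b0 + a1 * b2 + a2 * b1) (a0 * b1 + a1 * b0 + a1 * b2 + a2 * b1 + a2 * b2)
    (a0 * b2 + a1 * b1 + a2 * b0 + a2 * b2)
  rw [e1, e2, e3, cast_mod_two hF, cast_mod_two hF, cast_mod_two hF]
  push_cast
  linear_combination (-(a1 : F) * b2 - a2 * b1 - a2 * b2 * ω) * hω +
    ((a1 : F) * b2 + a2 * b1 + a1 * b2 * ω + a2 * b1 * ω + a2 * b2 * ω + a2 * b2 * ω ^ 2) * two_eq_zero hF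

theorem dec_bijective [Fintype F] (hF : Fintype.card F = 8) {ω : F} (hω : ω ^ 3 + ω + 1 = 0) :
    Function.Bijective fun a : Fin 8 => dec ω a.1 := by
  refine (Fintype.bijective_iff_injective_and_card _).mpr ⟨?_, by simp [hF]⟩
  have hne : ∀ a < 8, dec ω a = 0 → a = 0 := by
    intro a ha h
    have hinv : ∀ a < 8, a = 0 ∨ ∃ b < 8, mul8 a b = 1 := by decide
    rcases hinv a ha with h0 | ⟨b, -, hb⟩
    · exact h0
    · have := dec_mul hF hω a b
      rw [hb, h, zero_mul] at this
      simp [dec] at this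
  intro a b h
  have h0 : dec ω (add8 a.1 b.1) = 0 := by
    rw [dec_add hF, show dec ω a.1 = dec ω b.1 from h, ← two_mul, two_eq_zero hF, zero_mul]
  have h1 := hne _ (by have := a.2; unfold add8; omega) h0
  have hsep : ∀ a < 8, ∀ b < 8, add8 a b = 0 → a = b := by decide
  exact Fin.ext (hsep a.1 a.2 b.1 b.2 h1)

/-- Addition of codes, evaluated quickly. -/
def addX (a b : ℕ) : ℕ := a ^^^ b

/-- Multiplication of codes, read from a packed table. -/
def mulX (a b : ℕ) : ℕ := (2821848294356612419217921029917578219971947684264937521152 >>> (3 * (8 * a + b))) % 8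

theorem addX_eq : ∀ a < 8, ∀ b < 8, addX a b = add8 a b := by decide +kernel

theorem mulX_eq : ∀ a < 8, ∀ b < 8, mulX a b = mul8 a b := by decide +kernel

/-- The codes. -/
noncomputable def fieldCode [Fintype F] (hF : Fintype.card F = 8) {ω : F} (hω : ω ^ 3 + ω + 1 = 0) :
    FieldCode F := by
  let e := Equiv.ofBijective _ (dec_bijective hF hω)
  have hs : ∀ a : ℕ, a < 8 → (e.symm (dec ω a)).1 = a := fun a ha => by
    have : e.symm (dec ω a) = ⟨a, ha⟩ := by rw [Equiv.symm_apply_eq]; rfl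
    rw [this]
  have hd : ∀ x, dec ω (e.symm x).1 = x := e.apply_symm_apply
  exact
    { q := 8, add := addX, mul := mulX
      code := fun x => (e.symm x).1
      code_lt := fun x => (e.symm x).2
      code_inj := fun x y h => e.symm.injective (Fin.ext h)
      code_zero := by
        have h := hs 0 (by norm_num)
        rwa [show dec ω 0 = 0 by simp [dec]] at h
      code_one := by
        have h := hs 1 (by norm_num)
        rwa [show dec ω 1 = 1 by simp [dec]] at h
      code_add := fun x y => by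
        rw [addX_eq _ (e.symm x).2 _ (e.symm y).2]
        conv_lhs => rw [← hd x, ← hd y, ← dec_add hF]
        exact hs _ (by unfold add8; omega)
      code_mul := fun x y => by
        rw [mulX_eq _ (e.symm x).2 _ (e.symm y).2]
        conv_lhs => rw [← hd x, ← hd y, ← dec_mul hF hω]
        exact hs _ (by unfold mul8; omega) }

theorem fieldCode_code [Fintype F] (hF : Fintype.card F = 8) {ω : F} (hω : ω ^ 3 + ω + 1 = 0) (a : ℕ) (ha : a < 8) :
    (fieldCode hF hω).code (dec ω a) = a := by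
  show ((Equiv.ofBijective _ (dec_bijective hF hω)).symm (dec ω a)).1 = a
  rw [show (Equiv.ofBijective _ (dec_bijective hF hω)).symm (dec ω a) = ⟨a, ha⟩ by
    rw [Equiv.symm_apply_eq]; rfl]

end CfsgLib.CentralCert.FEight
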