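/-
The packed identity test in ranges of relations.
-/
import Cfsg.Agent.CentralCert.Fast

set_option autoImplicit false

namespace CfsgLib.CentralCert

open CfsgLib.ExtCert

/-- The identity test for the relations between two positions. -/
def Upper.identRows (D : Upper) (PS PK : List (ℤ × ℕ)) (lo len : ℕ) : Bool :=
  (List.range' lo len).all fun k =>
    let s := combVal PS (D.C.getD k [])
    let t := combVal PK (D.sels.getD k [])
    Nat.blt (1 + s.2 + t.2) (2 ^ 255) && decide (sumBase k - s.1 + t.1 = 0)

/-- The test that needs no relation. -/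
def Upper.identShape (D : Upper) : Bool :=
  Nat.beq D.e.length 0 && idxOK D.rels.length D.K && idxOK D.rels.length D.sec

theorem Upper.identP_of_ranges (D : Upper) (PS PK : List (ℤ × ℕ)) {r a b c : ℕ}
    (h0 : D.identShape = true) (hr : D.rels.length = r) (hab : a + b + c = r)
    (h1 : D.identRows PS PK 0 a = true) (h2 : D.identRows PS PK a b = true)
    (h3 : D.identRows PS PK (a + b) c = true) : D.identP PS PK = true := by
  simp only [Upper.identShape] at h0
  simp only [Upper.identP, Bool.and_eq_true, h0, true_and, List.all_eq_true, List.mem_range]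
  intro k hk
  rw [hr] at hk
  simp only [Upper.identRows, List.all_eq_true, List.mem_range'_1, Bool.and_eq_true] at h1 h2 h3
  rcases Nat.lt_or_ge k a with h | h
  · exact h1 k ⟨Nat.zero_le _, by omega⟩
  rcases Nat.lt_or_ge k (a + b) with h' | h'
  · exact h2 k ⟨h, by omega⟩
  · exact h3 k ⟨h', by omega⟩

end CfsgLib.CentralCert
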