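/-
PSL(3,4) coded by normalised matrices.
-/
import Cfsg.Agent.CentralCert.FieldFour
import Cfsg.Agent.Classical.PSLThreeFour

set_option autoImplicit false

namespace CfsgLib.CentralCert.FFour

open Matrix CfsgLib.ExtCert

/-- A packed matrix times a scalar code. -/
def scaleN (c X : ℕ) : ℕ := forceN X fun X => packN 4 9 fun k => mul4 c (digit 4 X k)

/-- The smallest of the three multiples of a packed matrix. -/
def norm4 (X : ℕ) : ℕ := forceN X fun X => min (scaleN 1 X) (min (scaleN 2 X) (scaleN 3 X))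

/-- The product of normalised matrices. -/
def pmul (X Y : ℕ) : ℕ := norm4 (mmul 3 4 add4 mul4 X Y)

/-- The normalised identity. -/
def pone : ℕ := norm4 (packN 4 (3 * 3) fun k => if k / 3 = k % 3 then 1 else 0)

variable {F : Type*} [Field F] [Fintype F] (hF : Fintype.card F = 4) {ω : F} (hω : ω ^ 2 + ω + 1 = 0)

include hF hω

theorem code_mul' (x y : F) : (fieldCode hF hω).code (x * y) = mul4 ((fieldCode hF hω).code x) ((fieldCode hF hω).code y) :=
  (fieldCode hF hω).code_mul x y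

theorem scaleN_mcode (c : F) (M : Matrix (Fin 3) (Fin 3) F) :
    scaleN ((fieldCode hF hω).code c) ((fieldCode hF hω).mcode M) = (fieldCode hF hω).mcode (c • M) := by
  simp only [scaleN, forceN_eq]
  refine packN_congr _ _ _ fun k hk => ?_
  have h1 : k / 3 < 3 := by omega
  have h2 : k % 3 < 3 := Nat.mod_lt _ (by norm_num)
  rw [dif_pos ⟨h1, h2⟩, Matrix.smul_apply, smul_eq_mul, code_mul' hF hω]
  congr 1
  have := (fieldCode hF hω).digit_mcode M ⟨k / 3, h1⟩ ⟨k % 3, h2⟩
  rw [show (fieldCode hF hω).q = 4 from (fieldCode_ops hF hω).1] at this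
  rw [← this]
  congr 1
  dsimp
  omega

theorem unit_cases (c : F) (hc : c ≠ 0) :
    c = dec ω 1 ∨ c = dec ω 2 ∨ c = dec ω 3 := by
  obtain ⟨a, rfl⟩ := (dec_bijective hF hω).2 c
  fin_cases a
  · exact absurd (by simp [dec]) hc
  all_goals simp

theorem norm4_mcode (M : Matrix (Fin 3) (Fin 3) F) :
    norm4 ((fieldCode hF hω).mcode M) = min ((fieldCode hF hω).mcode (dec ω 1 • M))
      (min ((fieldCode hF hω).mcode (dec ω 2 • M)) ((fieldCode hF hω).mcode (dec ω 3 • M))) := by
  simp only [norm4, forceN_eq]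
  rw [← scaleN_mcode hF hω, ← scaleN_mcode hF hω, ← scaleN_mcode hF hω, fieldCode_code hF hω 1 (by norm_num),
    fieldCode_code hF hω 2 (by norm_num), fieldCode_code hF hω 3 (by norm_num)]

theorem norm4_smul (c : F) (hc : c ≠ 0) (M : Matrix (Fin 3) (Fin 3) F) :
    norm4 ((fieldCode hF hω).mcode (c • M)) = norm4 ((fieldCode hF hω).mcode M) := by
  have hm : ∀ a < 4, ∀ b < 4, dec ω a * dec ω b = dec ω (mul4 a b) := fun a ha b hb =>
    ((dec_ops hF hω a ha b hb).2).symm
  have e22 : dec ω 2 * dec ω 2 = dec ω 3 := hm 2 (by norm_num) 2 (by norm_num)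
  have e23 : dec ω 2 * dec ω 3 = dec ω 1 := hm 2 (by norm_num) 3 (by norm_num)
  have e32 : dec ω 3 * dec ω 2 = dec ω 1 := hm 3 (by norm_num) 2 (by norm_num)
  have e33 : dec ω 3 * dec ω 3 = dec ω 2 := hm 3 (by norm_num) 3 (by norm_num)
  have e1 : dec ω 1 = 1 := by simp [dec]
  rw [norm4_mcode hF hω, norm4_mcode hF hω]
  rcases unit_cases hF hω c hc with rfl | rfl | rfl <;>
    simp only [smul_smul, e22, e23, e32, e33, e1, one_mul, mul_one] <;> omega

theorem eq_smul_of_norm4 {M N : Matrix (Fin 3) (Fin 3) F}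
    (h : norm4 ((fieldCode hF hω).mcode M) = norm4 ((fieldCode hF hω).mcode N)) :
    ∃ c : F, c ≠ 0 ∧ M = c • N := by
  have hne : ∀ a ∈ [1, 2, 3], dec ω a ≠ 0 := by
    intro a ha h0
    have h4 : a < 4 := by simp at ha; omega
    have := congrArg Fin.val ((dec_bijective hF hω).1
      (show (fun a : Fin 4 => dec ω a.1) ⟨a, h4⟩ = (fun a : Fin 4 => dec ω a.1) 0 by
          show dec ω a = dec ω 0
          rw [h0]; simp [dec]))
    simp only [Fin.val_zero] at this
    simp [this] at ha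
  have hpick : ∀ P : Matrix (Fin 3) (Fin 3) F, ∃ a ∈ [1, 2, 3],
      norm4 ((fieldCode hF hω).mcode P) = (fieldCode hF hω).mcode (dec ω a • P) := by
    intro P
    rw [norm4_mcode hF hω]
    rcases min_choice ((fieldCode hF hω).mcode (dec ω 1 • P))
      (min ((fieldCode hF hω).mcode (dec ω 2 • P)) ((fieldCode hF hω).mcode (dec ω 3 • P))) with h | h
    · exact ⟨1, by simp, h⟩
    · rcases min_choice ((fieldCode hF hω).mcode (dec ω 2 • P)) ((fieldCode hF hω).mcode (dec ω 3 • P)) with h' | h'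
      · exact ⟨2, by simp, h.trans h'⟩
      · exact ⟨3, by simp, h.trans h'⟩
  obtain ⟨a, ha, e1⟩ := hpick M
  obtain ⟨b, hb, e2⟩ := hpick N
  have e := (fieldCode hF hω).mcode_injective (e1.symm.trans (h.trans e2))
  refine ⟨(dec ω a)⁻¹ * dec ω b, mul_ne_zero (inv_ne_zero (hne a ha)) (hne b hb), ?_⟩
  rw [mul_smul, ← e, inv_smul_smul₀ (hne a ha)]

theorem norm4_mmul (M N : Matrix (Fin 3) (Fin 3) F) :
    norm4 ((fieldCode hF hω).mcode (M * N)) =
      pmul (norm4 ((fieldCode hF hω).mcode M)) (norm4 ((fieldCode hF hω).mcode N)) := by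
  have hpick : ∀ P : Matrix (Fin 3) (Fin 3) F, ∃ c : F, c ≠ 0 ∧
      norm4 ((fieldCode hF hω).mcode P) = (fieldCode hF hω).mcode (c • P) := by
    intro P
    have hd : ∀ a, 1 ≤ a → a < 4 → dec ω a ≠ 0 := by
      intro a h1 h4 h0
      have := congrArg Fin.val ((dec_bijective hF hω).1
        (show (fun a : Fin 4 => dec ω a.1) ⟨a, h4⟩ = (fun a : Fin 4 => dec ω a.1) 0 by
          show dec ω a = dec ω 0
          rw [h0]; simp [dec]))
      simp only [Fin.val_zero] at this
      omega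
    rw [norm4_mcode hF hω]
    rcases min_choice ((fieldCode hF hω).mcode (dec ω 1 • P))
      (min ((fieldCode hF hω).mcode (dec ω 2 • P)) ((fieldCode hF hω).mcode (dec ω 3 • P))) with h | h
    · exact ⟨_, hd 1 le_rfl (by norm_num), h⟩
    · rcases min_choice ((fieldCode hF hω).mcode (dec ω 2 • P)) ((fieldCode hF hω).mcode (dec ω 3 • P)) with h' | h'
      · exact ⟨_, hd 2 (by norm_num) (by norm_num), h.trans h'⟩
      · exact ⟨_, hd 3 (by norm_num) (by norm_num), h.trans h'⟩
  obtain ⟨c, hc, e1⟩ := hpick M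
  obtain ⟨d, hd, e2⟩ := hpick N
  obtain ⟨o1, o2, o3⟩ := fieldCode_ops hF hω
  have hmul := (fieldCode hF hω).mcode_mul (c • M) (d • N)
  rw [o1, o2, o3] at hmul
  rw [pmul, e1, e2, ← hmul, Matrix.smul_mul, Matrix.mul_smul, smul_smul, norm4_smul hF hω _ (mul_ne_zero hc hd)]

theorem norm4_mcode_one : norm4 ((fieldCode hF hω).mcode (1 : Matrix (Fin 3) (Fin 3) F)) = pone := by
  rw [FieldCode.mcode_one, (fieldCode_ops hF hω).1, pone]

theorem mk_eq_of_norm4 {A B : Matrix.SpecialLinearGroup (Fin 3) F}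
    (h : norm4 ((fieldCode hF hω).mcode (A : Matrix (Fin 3) (Fin 3) F)) =
      norm4 ((fieldCode hF hω).mcode (B : Matrix (Fin 3) (Fin 3) F))) :
    (QuotientGroup.mk A : Matrix.ProjectiveSpecialLinearGroup (Fin 3) F) = QuotientGroup.mk B := by
  obtain ⟨c, -, hc⟩ := eq_smul_of_norm4 hF hω h
  rw [← inv_mul_eq_one, ← QuotientGroup.mk_inv, ← QuotientGroup.mk_mul]
  refine CfsgLib.Linear.ThreeFour.mk_eq_one_of_scalar _ c⁻¹ ?_
  have hcne : c ≠ 0 := fun h0 => by
    have hd := A.2
    rw [hc, h0, zero_smul, Matrix.det_zero] at hd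
    exact zero_ne_one hd
  have e : (B : Matrix (Fin 3) (Fin 3) F) = c⁻¹ • (A : Matrix (Fin 3) (Fin 3) F) := by
    rw [hc, inv_smul_smul₀ hcne]
  rw [Matrix.SpecialLinearGroup.coe_mul, e, Matrix.mul_smul, ← Matrix.SpecialLinearGroup.coe_mul, inv_mul_cancel,
    Matrix.SpecialLinearGroup.coe_one]

/-- A representative of a class. -/
noncomputable def rep (x : Matrix.ProjectiveSpecialLinearGroup (Fin 3) F) : Matrix.SpecialLinearGroup (Fin 3) F :=
  Quotient.out x

theorem enc_mk (A : Matrix.SpecialLinearGroup (Fin 3) F) :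
    norm4 ((fieldCode hF hω).mcode (rep (QuotientGroup.mk A) : Matrix (Fin 3) (Fin 3) F)) =
      norm4 ((fieldCode hF hω).mcode (A : Matrix (Fin 3) (Fin 3) F)) := by
  have h : (QuotientGroup.mk (rep (QuotientGroup.mk A)) : Matrix.ProjectiveSpecialLinearGroup (Fin 3) F) =
      QuotientGroup.mk A := QuotientGroup.out_eq' _
  rw [← inv_mul_eq_one, ← QuotientGroup.mk_inv, ← QuotientGroup.mk_mul] at h
  obtain ⟨c, hc, hm⟩ := CfsgLib.Linear.ThreeFour.exists_scalar_of_mk_eq_one _ h
  generalize rep (QuotientGroup.mk A : Matrix.ProjectiveSpecialLinearGroup (Fin 3) F) = R at hm ⊢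
  have e : (A : Matrix (Fin 3) (Fin 3) F) = c • (R : Matrix (Fin 3) (Fin 3) F) := by
    calc (A : Matrix (Fin 3) (Fin 3) F) = ((R * (R⁻¹ * A) : Matrix.SpecialLinearGroup (Fin 3) F) :
          Matrix (Fin 3) (Fin 3) F) := by rw [mul_inv_cancel_left]
      _ = (R : Matrix (Fin 3) (Fin 3) F) * (c • 1) := by rw [Matrix.SpecialLinearGroup.coe_mul, hm]
      _ = _ := by rw [Matrix.mul_smul, mul_one]
  have hcne : c ≠ 0 := fun h0 => by
    have hd := A.2
    rw [e, h0, zero_smul, Matrix.det_zero] at hd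
    exact zero_ne_one hd
  rw [e, norm4_smul hF hω c hcne]

attribute [local irreducible] pone pmul norm4

/-- The model. -/
noncomputable def projModel : Model (Matrix.ProjectiveSpecialLinearGroup (Fin 3) F) ℕ where
  enc x := norm4 ((fieldCode hF hω).mcode (rep x : Matrix (Fin 3) (Fin 3) F))
  one := pone
  mul := pmul
  inj x y h := by
    have := mk_eq_of_norm4 hF hω h
    rwa [rep, rep, QuotientGroup.out_eq', QuotientGroup.out_eq'] at this
  enc_one := by
    rw [show (1 : Matrix.ProjectiveSpecialLinearGroup (Fin 3) F) = QuotientGroup.mk 1 from rfl]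
    rw [enc_mk hF hω, Matrix.SpecialLinearGroup.coe_one, norm4_mcode_one hF hω]
  enc_mul x y := by
    obtain ⟨A, rfl⟩ := QuotientGroup.mk_surjective x
    obtain ⟨B, rfl⟩ := QuotientGroup.mk_surjective y
    rw [← QuotientGroup.mk_mul, enc_mk hF hω, enc_mk hF hω, enc_mk hF hω, Matrix.SpecialLinearGroup.coe_mul,
      norm4_mmul hF hω]

end CfsgLib.CentralCert.FFour
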