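/-
The tests for the multiplier of PSL(3,4): one prime.
-/
import Cfsg.Agent.CentralCert.ProjThreeFour
import Cfsg.Agent.CentralCert.LThreeFourThreeUpper
import Cfsg.Agent.CentralCert.LThreeFourThreeLower

set_option autoImplicit false
set_option maxRecDepth 100000
set_option maxHeartbeats 4000000

namespace CfsgLib.CentralCert.LThreeFour.Three

open FFour

/-- The coded generators. -/
def base : List ℕ := [65797, 65801, 5124, 65604]

/-- The decoding of values. -/
def dec (c : ℕ) : ZMod 3 := (c : ZMod 3)

theorem upper_ok : upperThree.ok pone pmul base = true := by decide +kernel

theorem lower_tabs : lowerThree.tabsOK pone pmul base tabsThree = true := by decide +kernel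

theorem lower_grp : lowerThree.grpOK pone pmul tabsThree = true := by decide +kernel

theorem lower_light : lowerThree.lightOK dec = true := by decide +kernel

theorem lower_cos : lowerThree.cosOK pone pmul base tabsThree = true := by decide +kernel

theorem lower_wit : lowerThree.witOK pone pmul base tabsThree = true := by decide +kernel

theorem values_eq : lowerThree.values dec = [(2 : ZMod 3)] := by
  decide +kernel

theorem values_gen : AddSubgroup.closure {v | v ∈ lowerThree.values dec} = ⊤ := by
  rw [values_eq, eq_top_iff]
  intro a _
  have key : ∀ a : ZMod 3, ∃ i < 3, a = i • (2 : ZMod 3) := by decide +kernel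
  obtain ⟨i, -, rfl⟩ := key a
  exact AddSubgroup.nsmul_mem _ (AddSubgroup.subset_closure (by simp)) i

theorem data_len : lowerThree.T.length * lowerThree.W.length = 20160 := by rfl

end CfsgLib.CentralCert.LThreeFour.Three
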