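/-
An upper bound (p = 2) for the multiplier of PSL(3,4).
-/
import Cfsg.Agent.CentralCert.Upper

set_option autoImplicit false
set_option maxRecDepth 100000

namespace CfsgLib.CentralCert.LThreeFour

/-- A part of a table. -/
def upperTwoNF0 : List (List ℕ) := [[],
  [5],
  [4],
  [4, 5],
  [3],
  [3, 5],
  [3, 4],
  [3, 4, 5],
  [2],
  [2, 5],
  [2, 4],
  [2, 4, 5],
  [2, 3],
  [2, 3, 5],
  [2, 3, 4],
  [2, 3, 4, 5],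
  [1],
  [1, 5],
  [1, 4],
  [1, 4, 5],
  [1, 3],
  [1, 3, 5],
  [1, 3, 4],
  [1, 3, 4, 5],
  [1, 2],
  [1, 2, 5],
  [1, 2, 4],
  [1, 2, 4, 5],
  [1, 2, 3],
  [1, 2, 3, 5],
  [1, 2, 3, 4],
  [1, 2, 3, 4, 5]]

/-- A part of a table. -/
def upperTwoNF1 : List (List ℕ) := [[0],
  [0, 5],
  [0, 4],
  [0, 4, 5],
  [0, 3],
  [0, 3, 5],
  [0, 3, 4],
  [0, 3, 4, 5],
  [0, 2],
  [0, 2, 5],
  [0, 2, 4],
  [0, 2, 4, 5],
  [0, 2, 3],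
  [0, 2, 3, 5],
  [0, 2, 3, 4],
  [0, 2, 3, 4, 5],
  [0, 1],
  [0, 1, 5],
  [0, 1, 4],
  [0, 1, 4, 5],
  [0, 1, 3],
  [0, 1, 3, 5],
  [0, 1, 3, 4],
  [0, 1, 3, 4, 5],
  [0, 1, 2],
  [0, 1, 2, 5],
  [0, 1, 2, 4],
  [0, 1, 2, 4, 5],
  [0, 1, 2, 3],
  [0, 1, 2, 3, 5],
  [0, 1, 2, 3, 4],
  [0, 1, 2, 3, 4, 5]]

/-- The certificate for the upper bound. -/
def upperTwo : Upper where
  W := [[0], [1], [2, 2, 0, 2], [2, 2, 1, 2], [2, 3, 0, 2, 3], [2, 3, 1, 2, 3]]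
  rels := [([0, 0], []), ([1, 1], []), ([2, 2], []), ([3, 3], []), ([4, 4], []), ([5, 5], []), ([1, 0], [0, 1]), ([2, 0], [0, 2, 4]), ([3, 0], [0, 3, 5]), ([4, 0], [0, 4]), ([5, 0], [0, 5]), ([2, 1], [1, 2, 5]), ([3, 1], [1, 3, 4, 5]), ([4, 1], [1, 4]), ([5, 1], [1, 5]), ([3, 2], [2, 3]), ([4, 2], [2, 4]), ([5, 2], [2, 5]), ([4, 3], [3, 4]), ([5, 3], [3, 5]), ([5, 4], [4, 5])]
  NF := (upperTwoNF0 ++ upperTwoNF1)
  cons := [([1], 0), ([2], 0), ([2], 1), ([2], 6), ([2], 7), ([2], 11), ([3], 0), ([3], 1), ([3], 2), ([3], 6), ([3], 7), ([3], 8), ([3], 11), ([3], 12), ([4], 1), ([4], 8)]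
  fus := [⟨[2, 3, 0, 1, 3, 0, 1, 2, 0], [[1, 4], [0, 4, 5]], [[3], [2]], [0, 1], [1, 0]⟩, ⟨[1, 3, 1, 3, 0, 2, 3, 0, 2], [[5], [2], [4], [3]], [[2], [3, 5], [2, 3], [2, 3, 4, 5]], [0, 1], [1, 0]⟩]
  K := [[(6, 2)], [(4, 1), (7, 2), (9, 1)], [(5, 1), (11, 2), (14, 1)], [(10, 1), (13, -1), (20, -1)], [(4, -1), (7, -2), (16, -1)], [(5, -1), (11, -2), (17, -1)], [(5, 1), (8, 2), (10, 1)], [(4, 1), (5, 1), (12, 2), (13, 1), (14, 1), (20, 1)], [(15, 2)], [(9, 1), (10, 1), (14, -1), (20, 1)], [(17, -1), (18, 1), (20, -1)], [(5, -1), (8, -2), (19, -1)], [(16, -1), (17, -1), (19, 1), (20, 1)], [(4, -1), (5, -1), (12, -2), (18, -1), (19, -1), (20, -1)], [(13, 2)], [(20, 1)], [(6, -1), (9, -1), (13, 1), (14, 1), (15, 1), (20, 1)], [(15, -1), (17, -2)]]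
  sec := [[(0, 1)], [(1, 1)], [(2, 1)], [(3, 1)], [(7, -1)], [(8, -1)]]
  C := [[(0, 1)], [(1, 1)], [(2, 1)], [(3, 1)], [(4, 2)], [(5, 2)], [], [(4, -1)], [(5, -1)], [], [], [(5, -1)], [(4, -1), (5, -1)], [], [], [], [], [], [], [], []]
  e := [[(8, -1), (11, 1)], [(7, -1), (8, -1), (12, 1)]]
  d := [4, 4]
  A := [[], [], [], [], [(0, 2)], [(1, 2)], [], [], [], [(0, 2)], [(1, 2)], [(0, 1)], [(1, 1)], [(1, 2)], [(0, 2), (1, 2)], [], [(0, 2)], [(0, 2), (1, 2)], [(0, 2), (1, 2)], [(1, 2)], []]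
  sels := [[], [], [], [], [(6, -1), (9, 1), (1, -1), (2, 1), (15, -1)], [(3, 1), (6, -2), (7, 1), (9, 1), (1, -1), (15, -1)], [(16, 1), (3, 1), (17, 1), (6, -1), (5, -1), (15, 1), (11, -1), (12, -1), (4, 1), (1, 1), (2, -1)], [], [], [(15, -1), (11, 1), (5, -1), (12, 1), (4, -1), (1, -1)], [(6, -1), (3, -1), (7, 1), (9, 1), (1, -1), (15, -3), (14, -1)], [], [], [(6, -1), (7, 1), (9, 1), (1, -1), (15, -2), (14, -1)], [(3, -1), (6, -1), (7, 1), (15, -5), (11, 1), (5, -1), (12, 1), (4, -1), (9, 2), (1, -2), (14, -1)], [(17, 1), (5, -1), (3, 2), (6, -1), (9, -1), (1, 1), (11, -1), (12, -1), (4, 1), (2, -1), (14, 1), (15, 4)], [(15, -1), (11, 1), (5, -1), (12, 1)], [(3, -1), (6, -1), (7, 1), (15, -5), (11, 1), (12, 1), (4, -1), (2, 1), (9, 2), (1, -2), (14, -1)], [(10, -1), (3, -1), (6, -1), (7, 1), (11, 1), (12, 1), (4, -1), (2, 1),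 (15, -6), (9, 2), (1, -2), (14, -1)], [(3, -1), (11, 1), (7, 1), (9, 1), (1, -1), (15, -3), (14, -1)], [(15, -1)]]
  dsels := [[(11, -1), (5, 1), (12, -1), (6, 1), (9, -1), (4, 1), (1, 1), (2, -1), (15, 2)], [(6, 2), (7, -2), (9, -2), (1, 2), (14, 1), (15, 4)]]

end CfsgLib.CentralCert.LThreeFour
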