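/-
The tests for the multiplier of PSL(3,4): one prime.
-/
import Cfsg.Agent.CentralCert.ProjThreeFour
import Cfsg.Agent.CentralCert.LThreeFourTwoUpper
import Cfsg.Agent.CentralCert.LThreeFourTwoLower

set_option autoImplicit false
set_option maxRecDepth 100000
set_option maxHeartbeats 4000000

namespace CfsgLib.CentralCert.LThreeFour.Two

open FFour

/-- The coded generators. -/
def base : List ℕ := [65797, 65801, 5124, 65604]

/-- The decoding of values. -/
def dec (c : ℕ) : ZMod 4 × ZMod 4 := ((c % 4 : ℕ), (c / 4 % 4 : ℕ))

theorem upper_ok : upperTwo.ok pone pmul base = true := by decide +kernel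

theorem lower_tabs : lowerTwo.tabsOK pone pmul base tabsTwo = true := by decide +kernel

theorem lower_grp : lowerTwo.grpOK pone pmul tabsTwo = true := by decide +kernel

theorem lower_light : lowerTwo.lightOK dec = true := by decide +kernel

theorem lower_cos : lowerTwo.cosOK pone pmul base tabsTwo = true := by decide +kernel

theorem lower_wit : lowerTwo.witOK pone pmul base tabsTwo = true := by decide +kernel

theorem values_eq : lowerTwo.values dec = [((1 : ZMod 4), (0 : ZMod 4)), ((2 : ZMod 4), (3 : ZMod 4))] := by
  decide +kernel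

theorem values_gen : AddSubgroup.closure {v | v ∈ lowerTwo.values dec} = ⊤ := by
  rw [values_eq, eq_top_iff]
  intro a _
  have key : ∀ a : ZMod 4 × ZMod 4, ∃ i < 4, ∃ j < 4,
      a = i • ((1 : ZMod 4), (0 : ZMod 4)) + j • ((2 : ZMod 4), (3 : ZMod 4)) := by decide +kernel
  obtain ⟨i, -, j, -, rfl⟩ := key a
  exact add_mem (AddSubgroup.nsmul_mem _ (AddSubgroup.subset_closure (by simp)) i)
    (AddSubgroup.nsmul_mem _ (AddSubgroup.subset_closure (by simp)) j)

theorem data_len : lowerTwo.T.length * lowerTwo.W.length = 20160 := by rfl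

end CfsgLib.CentralCert.LThreeFour.Two
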