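/-
The multiplier of PSL(3,4).
-/
import Cfsg.Agent.CentralCert.Assemble
import Cfsg.Agent.CentralCert.LThreeFourTwoOK
import Cfsg.Agent.CentralCert.LThreeFourThreeOK
import Cfsg.Agent.LocalB.SixtyFourModels
import Cfsg.Agent.Classical.Transvections

set_option autoImplicit false
set_option maxHeartbeats 1000000
set_option maxRecDepth 100000

namespace CfsgLib.CentralCert.LThreeFour

open Matrix FFour CfsgLib.ExtCert
open scoped commutatorElement

universe u

variable {F : Type u} [Field F]

theorem mcode_digits [Fintype F] (hF : Fintype.card F = 4) {ω : F} (hω : ω ^ 2 + ω + 1 = 0)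
    (M : Matrix (Fin 3) (Fin 3) F) (num : ℕ) (hn : packN 4 9 (digit 4 num) = num)
    (h : ∀ i j : Fin 3, M i j = FFour.dec ω (digit 4 num (i.1 * 3 + j.1))) :
    (fieldCode hF hω).mcode M = num := by
  rw [← hn]
  show packN 4 9 _ = _
  refine packN_congr _ _ _ fun k hk => ?_
  have h1 : k / 3 < 3 := by omega
  have h2 : k % 3 < 3 := Nat.mod_lt _ (by norm_num)
  rw [dif_pos ⟨h1, h2⟩, h, fieldCode_code]
  · congr 1; dsimp; omega
  · exact Nat.mod_lt _ (by norm_num)

theorem commutator_top {G : Type*} [Group G] [IsSimpleGroup G] {a b : G} (h : a * b ≠ b * a) :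
    commutator G = ⊤ := by
  refine (IsSimpleGroup.eq_bot_or_eq_top_of_normal (commutator G) inferInstance).resolve_left fun hb => h ?_
  have hm : ⁅a, b⁆ ∈ commutator G := Subgroup.commutator_mem_commutator (Subgroup.mem_top _) (Subgroup.mem_top _)
  rw [hb, Subgroup.mem_bot] at hm
  exact commutatorElement_eq_one_iff_mul_comm.mp hm

theorem coprime_bound : ∀ e < 142, e ^ 2 ∣ 20160 → e.Coprime 35 := by decide +kernel

theorem base_facts : norm4 65797 = 65797 ∧ norm4 65801 = 65801 ∧ norm4 5124 = 5124 ∧ norm4 65604 = 65604 ∧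
    pmul 65797 5124 ≠ pmul 5124 65797 := by decide +kernel

theorem digits_facts : packN 4 9 (digit 4 65797) = 65797 ∧ packN 4 9 (digit 4 65801) = 65801 ∧
    packN 4 9 (digit 4 5124) = 5124 ∧ packN 4 9 (digit 4 65604) = 65604 := by decide +kernel

theorem lens : upperTwo.e.length = 2 ∧ upperThree.e.length = 1 ∧
    315 * upperTwo.NF.length = 20160 ∧ 2240 * upperThree.NF.length = 20160 := ⟨rfl, rfl, rfl, rfl⟩

attribute [local irreducible] packN norm4 pmul pone in
theorem main [Fintype F] (hF : Fintype.card F = 4) :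
    Cfsg.HasSchurMultiplier (Matrix.ProjectiveSpecialLinearGroup (Fin 3) F)
      (Multiplicative (ZMod 3 × ZMod 4 × ZMod 4)) := by
  classical
  obtain ⟨ω, hω⟩ := exists_root (F := F) hF
  have h2 := FFour.two_eq_zero (F := F) hF
  let md := projModel hF hω
  let mk : Matrix.SpecialLinearGroup (Fin 3) F → Matrix.ProjectiveSpecialLinearGroup (Fin 3) F := QuotientGroup.mk
  let gA : Matrix.SpecialLinearGroup (Fin 3) F := ⟨!![1, 1, 0; 0, 1, 0; 0, 0, 1], by simp [Matrix.det_fin_three]⟩
  let gB : Matrix.SpecialLinearGroup (Fin 3) F := ⟨!![1, ω, 0; 0, 1, 0; 0, 0, 1], by simp [Matrix.det_fin_three]⟩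
  let gC : Matrix.SpecialLinearGroup (Fin 3) F := ⟨!![0, 1, 0; 0, 0, 1; 1, 0, 0], by simp [Matrix.det_fin_three]⟩
  let gP : Matrix.SpecialLinearGroup (Fin 3) F := ⟨!![0, 1, 0; 1, 0, 0; 0, 0, 1], by
    simp [Matrix.det_fin_three]
    linear_combination -h2⟩
  let gens : List (Matrix.ProjectiveSpecialLinearGroup (Fin 3) F) := [mk gA, mk gB, mk gC, mk gP]
  let x : ℕ → Matrix.ProjectiveSpecialLinearGroup (Fin 3) F := fun i => gens.getD i 1
  obtain ⟨n0, n1, n2, n3, hne⟩ := base_facts
  obtain ⟨d0, d1, d2, d3⟩ := digits_facts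
  have henc : ∀ (A : Matrix.SpecialLinearGroup (Fin 3) F) (num : ℕ), norm4 num = num →
      packN 4 9 (digit 4 num) = num →
      (∀ i j : Fin 3, (A : Matrix (Fin 3) (Fin 3) F) i j = FFour.dec ω (digit 4 num (i.1 * 3 + j.1))) →
      md.enc (mk A) = num := fun A num hn hd h => by
    show norm4 ((fieldCode hF hω).mcode (rep (QuotientGroup.mk A) : Matrix (Fin 3) (Fin 3) F)) = num
    rw [enc_mk hF hω, mcode_digits hF hω _ num hd h, hn]
  have hx : ∀ i, md.enc (x i) = Two.base.getD i md.one := by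
    intro i
    match i with
    | 0 =>
      refine henc gA 65797 n0 d0 fun i j => ?_
      fin_cases i <;> fin_cases j <;> norm_num [gA, FFour.dec, digit]
    | 1 =>
      refine henc gB 65801 n1 d1 fun i j => ?_
      fin_cases i <;> fin_cases j <;> norm_num [gB, FFour.dec, digit]
    | 2 =>
      refine henc gC 5124 n2 d2 fun i j => ?_
      fin_cases i <;> fin_cases j <;> norm_num [gC, FFour.dec, digit]
    | 3 =>
      refine henc gP 65604 n3 d3 fun i j => ?_
      fin_cases i <;> fin_cases j <;> norm_num [gP, FFour.dec, digit]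
    | n + 4 =>
      show md.enc 1 = _
      rw [md.enc_one, List.getD_eq_default _ _ (by simp [Two.base])]
  have hone : md.one = pone := rfl
  have hmul : md.mul = pmul := rfl
  have hxT : ∀ i, md.enc (x i) = Three.base.getD i md.one := hx
  have hcard : Nat.card (Matrix.ProjectiveSpecialLinearGroup (Fin 3) F) = 20160 := by
    have h := CfsgLib.Linear.card_PSL_mul hF 3 (by omega)
    norm_num [Fin.prod_univ_three, -Nat.card_eq_fintype_card] at h ⊢
    linarith
  haveI : IsSimpleGroup (Matrix.ProjectiveSpecialLinearGroup (Fin 3) F) :=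
    CfsgLib.Linear.isSimpleGroup_PSL (Or.inl (by simp))
  have hperf : commutator (Matrix.ProjectiveSpecialLinearGroup (Fin 3) F) = ⊤ := by
    refine commutator_top (a := x 0) (b := x 2) fun h => hne ?_
    have h' := congrArg md.enc h
    rw [md.enc_mul, md.enc_mul, hx, hx, hmul] at h'
    exact h'
  obtain ⟨c3, W3, hW3, hg3⟩ := Lower.exists_cocycle md lowerThree tabsThree hxT Three.dec
    (by rw [hone, hmul]; exact Three.lower_tabs) (by rw [hone, hmul]; exact Three.lower_grp) Three.lower_light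
    (by rw [hone, hmul]; exact Three.lower_cos) (by rw [hone, hmul]; exact Three.lower_wit)
    (Three.data_len.trans hcard.symm) Three.values_gen
  obtain ⟨c2, W2, hW2, hg2⟩ := Lower.exists_cocycle md lowerTwo tabsTwo hx Two.dec
    (by rw [hone, hmul]; exact Two.lower_tabs) (by rw [hone, hmul]; exact Two.lower_grp) Two.lower_light
    (by rw [hone, hmul]; exact Two.lower_cos) (by rw [hone, hmul]; exact Two.lower_wit)
    (Two.data_len.trans hcard.symm) Two.values_gen
  refine ⟨exists_stem_prod (a := 3) (b := 4) (by norm_num) (by decide) (by decide) hperf c3 c2 W3 W2 hW3 hW2 hg3 hg2,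
    fun Γ _ _ σ hσ => ?_⟩
  obtain ⟨E, hE, hEd, hgenE⟩ := Upper.bound md upperTwo hx (by rw [hone, hmul]; exact Two.upper_ok) hσ
  obtain ⟨E', hE', hEd', hgenE'⟩ := Upper.bound md upperThree hxT (by rw [hone, hmul]; exact Three.upper_ok) hσ
  obtain ⟨l2, l3, m2, m3⟩ := lens
  refine exists_surj_three hσ.2.1 (hE' 0) (hE 0) (hE 1) (hEd' 0 (by rw [l3]; norm_num)) (hEd 0 (by rw [l2]; norm_num))
    (hEd 1 (by rw [l2]; norm_num)) fun w hw => pow_coprime_mem hσ (m := 35) (fun e he => ?_) (fun z hz => ?_) hw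
  · rw [hcard] at he
    have hle : e < 142 := by
      by_contra hc
      have h142 : 142 ^ 2 ≤ e ^ 2 := Nat.pow_le_pow_left (not_lt.mp hc) 2
      have := Nat.le_of_dvd (by norm_num) he
      omega
    exact coprime_bound e hle he
  · have ha := hgenE z hz 315 (m2.trans hcard.symm)
    have hb := hgenE' z hz 2240 (m3.trans hcard.symm)
    rw [l2] at ha
    rw [l3] at hb
    have hsA : Subgroup.closure {y | ∃ i < 2, E i = y} ≤ Subgroup.closure {E' 0, E 0, E 1} :=
      Subgroup.closure_mono (by rintro y ⟨i, hi, rfl⟩; interval_cases i <;> simp)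
    have hsB : Subgroup.closure {y | ∃ i < 1, E' i = y} ≤ Subgroup.closure {E' 0, E 0, E 1} :=
      Subgroup.closure_mono (by rintro y ⟨i, hi, rfl⟩; interval_cases i; simp)
    have hpow : z ^ 35 = (z ^ 315) ^ (-7 : ℤ) * (z ^ 2240) ^ (1 : ℤ) := by
      rw [← zpow_natCast z 315, ← zpow_natCast z 2240, ← _root_.zpow_mul, ← _root_.zpow_mul, ← _root_.zpow_add, ← zpow_natCast]
      norm_num
    rw [hpow]
    exact mul_mem (zpow_mem (hsA ha) _) (zpow_mem (hsB hb) _)

end CfsgLib.CentralCert.LThreeFour
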