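/-
An upper bound (p = 3) for the multiplier of M22.
-/
import Cfsg.Agent.CentralCert.Upper

set_option autoImplicit false
set_option maxRecDepth 100000

namespace CfsgLib.CentralCert.MTwentyTwo


/-- The certificate for the upper bound. -/
def upperThree : Upper where
  W := [[0, 2, 0, 3, 3, 2, 2, 0, 0], [1, 0, 0, 2, 0, 1, 1, 0, 1]]
  rels := [([0, 0, 0], []), ([1, 1, 1], []), ([1, 0], [0, 1])]
  NF := [[], [1], [1, 1], [0], [0, 1], [0, 1, 1], [0, 0], [0, 0, 1], [0, 0, 1, 1]]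
  cons := [([1], 0)]
  fus := []
  K := [[(2, 3)]]
  sec := [[(0, 1)], [(1, 1)]]
  C := [[(0, 1)], [(1, 1)], []]
  e := [[(2, 1)]]
  d := [3]
  A := [[], [], [(0, 1)]]
  sels := [[], [], []]
  dsels := [[(0, -1)]]

end CfsgLib.CentralCert.MTwentyTwo
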