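/-
Subgroups of the permutations of the 24 points coded by packed position lists.
-/
import Cfsg.Agent.CentralCert.MatModel
import Cfsg.Agent.Golay.Cert

set_option autoImplicit false

namespace CfsgLib.CentralCert.Perms

open Cfsg CfsgLib.Golay CfsgLib.ExtCert

/-- A position list as one number. -/
def pack (L : List ℕ) : ℕ := packN 32 24 fun k => L.getD k 0

/-- The product of packed position lists. -/
def pmul (X Y : ℕ) : ℕ := forceN X fun X => forceN Y fun Y => packN 32 24 fun k => digit 32 X (digit 32 Y k)

/-- The packed identity. -/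
def pone : ℕ := packN 32 24 fun k => k

/-- The positions mapped into a set given by a mask. -/
def preMask (P X : ℕ) : ℕ :=
  forceN X fun X => (List.range 24).foldr (fun k r => if P / 2 ^ digit 32 X k % 2 = 1 then r + 2 ^ k else r) 0

theorem digit_pack (σ : Equiv.Perm GolayPt) {k : ℕ} (hk : k < 24) :
    digit 32 (pack (toList σ)) k = idx (σ (pt k)) := by
  rw [pack, digit_packN (by norm_num) _ _ (fun j hj => by rw [toList_getD σ hj]; have := idx_lt (σ (pt j)); omega) _ hk,
    toList_getD σ hk]

theorem pack_mul (σ τ : Equiv.Perm GolayPt) :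
    pack (toList (σ * τ)) = pmul (pack (toList σ)) (pack (toList τ)) := by
  simp only [pmul, forceN_eq]
  rw [pack]
  refine packN_congr _ _ _ fun k hk => ?_
  rw [toList_getD _ hk, digit_pack τ hk, digit_pack σ (idx_lt _), Equiv.Perm.mul_apply, pt_idx]

theorem pack_one : pack (toList (1 : Equiv.Perm GolayPt)) = pone :=
  packN_congr _ _ _ fun k hk => by rw [toList_getD _ hk, Equiv.Perm.one_apply, idx_pt k hk]

theorem pack_injective (σ τ : Equiv.Perm GolayPt) (h : pack (toList σ) = pack (toList τ)) : σ = τ := by
  refine Equiv.ext fun p => idx_injective ?_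
  have h' := congrArg (digit 32 · (idx p)) h
  simpa only [digit_pack _ (idx_lt p), pt_idx] using h'

/-- The model. -/
def model (K : Subgroup (Equiv.Perm GolayPt)) : Model K ℕ where
  enc x := pack (toList (x : Equiv.Perm GolayPt))
  one := pone
  mul := pmul
  inj x y h := Subtype.ext (pack_injective _ _ h)
  enc_one := pack_one
  enc_mul x y := pack_mul _ _

theorem preMask_invariant {K : Subgroup (Equiv.Perm GolayPt)} {P X : ℕ}
    (hX : ∀ v < 24, P / 2 ^ digit 32 X v % 2 = P / 2 ^ v % 2) (y : K) :
    preMask P (pmul X ((model K).enc y)) = preMask P ((model K).enc y) := by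
  simp only [preMask, forceN_eq]
  refine List.foldr_ext _ _ _ fun k hk r => ?_
  have hk' : k < 24 := List.mem_range.mp hk
  have hv : digit 32 ((model K).enc y) k < 24 := by
    show digit 32 (pack (toList (y : Equiv.Perm GolayPt))) k < 24
    rw [digit_pack _ hk']; exact idx_lt _
  have hd : digit 32 (pmul X ((model K).enc y)) k = digit 32 X (digit 32 ((model K).enc y) k) := by
    simp only [pmul, forceN_eq]
    exact digit_packN (by norm_num) _ _ (fun j _ => Nat.mod_lt _ (by norm_num)) _ hk'
  rw [hd, hX _ hv]

end CfsgLib.CentralCert.Perms
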