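/-
An upper bound (p = 2) for the multiplier of M22.
-/
import Cfsg.Agent.CentralCert.Upper

set_option autoImplicit false
set_option maxRecDepth 100000

namespace CfsgLib.CentralCert.MTwentyTwo

/-- A part of a table. -/
def upperTwoNF0 : List (List ℕ) := [[],
  [6],
  [5],
  [5, 6],
  [4],
  [4, 6],
  [4, 5],
  [4, 5, 6],
  [3],
  [3, 6],
  [3, 5],
  [3, 5, 6],
  [3, 4],
  [3, 4, 6],
  [3, 4, 5],
  [3, 4, 5, 6],
  [2],
  [2, 6],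
  [2, 5],
  [2, 5, 6],
  [2, 4],
  [2, 4, 6],
  [2, 4, 5],
  [2, 4, 5, 6],
  [2, 3],
  [2, 3, 6],
  [2, 3, 5],
  [2, 3, 5, 6],
  [2, 3, 4],
  [2, 3, 4, 6],
  [2, 3, 4, 5],
  [2, 3, 4, 5, 6]]

/-- A part of a table. -/
def upperTwoNF1 : List (List ℕ) := [[1],
  [1, 6],
  [1, 5],
  [1, 5, 6],
  [1, 4],
  [1, 4, 6],
  [1, 4, 5],
  [1, 4, 5, 6],
  [1, 3],
  [1, 3, 6],
  [1, 3, 5],
  [1, 3, 5, 6],
  [1, 3, 4],
  [1, 3, 4, 6],
  [1, 3, 4, 5],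
  [1, 3, 4, 5, 6],
  [1, 2],
  [1, 2, 6],
  [1, 2, 5],
  [1, 2, 5, 6],
  [1, 2, 4],
  [1, 2, 4, 6],
  [1, 2, 4, 5],
  [1, 2, 4, 5, 6],
  [1, 2, 3],
  [1, 2, 3, 6],
  [1, 2, 3, 5],
  [1, 2, 3, 5, 6],
  [1, 2, 3, 4],
  [1, 2, 3, 4, 6],
  [1, 2, 3, 4, 5],
  [1, 2, 3, 4, 5, 6]]

/-- A part of a table. -/
def upperTwoNF2 : List (List ℕ) := [[0],
  [0, 6],
  [0, 5],
  [0, 5, 6],
  [0, 4],
  [0, 4, 6],
  [0, 4, 5],
  [0, 4, 5, 6],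
  [0, 3],
  [0, 3, 6],
  [0, 3, 5],
  [0, 3, 5, 6],
  [0, 3, 4],
  [0, 3, 4, 6],
  [0, 3, 4, 5],
  [0, 3, 4, 5, 6],
  [0, 2],
  [0, 2, 6],
  [0, 2, 5],
  [0, 2, 5, 6],
  [0, 2, 4],
  [0, 2, 4, 6],
  [0, 2, 4, 5],
  [0, 2, 4, 5, 6],
  [0, 2, 3],
  [0, 2, 3, 6],
  [0, 2, 3, 5],
  [0, 2, 3, 5, 6],
  [0, 2, 3, 4],
  [0, 2, 3, 4, 6],
  [0, 2, 3, 4, 5],
  [0, 2, 3, 4, 5, 6]]

/-- A part of a table. -/
def upperTwoNF3 : List (List ℕ) := [[0, 1],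
  [0, 1, 6],
  [0, 1, 5],
  [0, 1, 5, 6],
  [0, 1, 4],
  [0, 1, 4, 6],
  [0, 1, 4, 5],
  [0, 1, 4, 5, 6],
  [0, 1, 3],
  [0, 1, 3, 6],
  [0, 1, 3, 5],
  [0, 1, 3, 5, 6],
  [0, 1, 3, 4],
  [0, 1, 3, 4, 6],
  [0, 1, 3, 4, 5],
  [0, 1, 3, 4, 5, 6],
  [0, 1, 2],
  [0, 1, 2, 6],
  [0, 1, 2, 5],
  [0, 1, 2, 5, 6],
  [0, 1, 2, 4],
  [0, 1, 2, 4, 6],
  [0, 1, 2, 4, 5],
  [0, 1, 2, 4, 5, 6],
  [0, 1, 2, 3],
  [0, 1, 2, 3, 6],
  [0, 1, 2, 3, 5],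
  [0, 1, 2, 3, 5, 6],
  [0, 1, 2, 3, 4],
  [0, 1, 2, 3, 4, 6],
  [0, 1, 2, 3, 4, 5],
  [0, 1, 2, 3, 4, 5, 6]]

/-- The certificate for the upper bound. -/
def upperTwo : Upper where
  W := [[2, 3, 2, 1, 3, 3, 2, 0], [0, 2, 1, 1, 3, 1, 2, 2, 1], [3, 3, 2, 1, 3, 3, 2, 1], [2, 0, 0, 3, 3, 3, 1], [2, 0, 3, 3, 3, 3, 2, 1], [1, 1, 3, 0, 3, 0, 3, 1, 1], [3, 1, 2, 1, 0, 3, 0, 1]]
  rels := [([0, 0], []), ([1, 1], [6]), ([2, 2], []), ([3, 3], []), ([4, 4], []), ([5, 5], []), ([6, 6], []), ([1, 0], [0, 1, 2, 4, 5]), ([2, 0], [0, 2]), ([3, 0], [0, 3, 4]), ([4, 0], [0, 4]), ([5, 0], [0, 5, 6]), ([6, 0], [0, 6]), ([2, 1], [1, 2, 5, 6]), ([3, 1], [1, 3, 6]), ([4, 1], [1, 4, 5]), ([5, 1], [1, 5]), ([6, 1], [1, 6]), ([3, 2], [2, 3, 5, 6]), ([4, 2], [2, 4, 6]), ([5, 2], [2, 5]), ([6, 2], [2, 6]), ([4, 3], [3, 4]), ([5, 3], [3, 5]), ([6, 3], [3, 6]), ([5, 4],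 [4, 5]), ([6, 4], [4, 6]), ([6, 5], [5, 6])]
  NF := (upperTwoNF0 ++ upperTwoNF1 ++ upperTwoNF2 ++ upperTwoNF3)
  cons := [([1], 0), ([1], 1), ([1], 7), ([2], 0), ([2], 1), ([2], 7), ([2], 13), ([3], 0), ([3], 1), ([3], 2), ([3], 7), ([3], 8), ([3], 9), ([3], 13), ([3], 18), ([4], 0), ([4], 1), ([4], 2), ([4], 7), ([4], 8), ([4], 13), ([4], 14), ([4], 18)]
  fus := [⟨[1, 0, 3, 0, 3, 0, 3, 1, 3], [[2], [1, 3]], [[3, 5, 6], [3, 4, 5]], [0, 1], [1, 0]⟩, ⟨[3, 2, 0, 1, 1, 2, 2, 2, 1], [[4, 6], [3, 5, 6]], [[1, 3, 5, 6], [5, 6]], [0, 1], [1, 0]⟩]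
  K := [[(2, 1), (4, 1), (5, 1), (6, 1), (7, 2), (8, 1), (10, 1), (11, 1), (19, 1), (20, 1), (25, 1), (26, 1), (27, 2)], [(17, 1)], [(2, -1), (4, -1), (5, -2), (6, -1), (7, -2), (12, 1), (13, -1), (15, -1), (16, -1), (19, -1), (20, -1), (21, -1), (25, -2), (26, -1), (27, -3)], [(8, 2)], [(5, 1), (6, 1), (13, 2), (16, 1), (17, 1), (21, 1), (27, 1)], [(6, 1), (11, 1), (12, 1), (19, 1), (21, -1), (25, -1), (26, -1), (27, 1)], [(5, -1), (6, -1), (13, -2), (20, -1), (21, -1), (27, -1)], [(4, 1), (9, 2), (10, 1)], [(6, 1), (14, 2), (17, 1), (24, 1)], [(5, 1), (6, 1), (18, 2), (20, 1), (21, 1), (27, 1)], [(5, -1), (6, -1), (12, 1), (15, -1), (18, -1), (19, -1), (20, -1), (21, -1), (22, 1), (23, 1), (26, -3), (27, -2)], [(11, 1), (12, 1), (19, -1), (25, -1), (26, -1)], [(4, -1), (9, -2), (22, -1)], [(16, 1), (17, 1), (21, -1), (23, 1), (24, 1)], [(5,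 -1), (6, -1), (18, -2), (23, -1), (24, -1), (27, -1)], [(10, 2)], [(5, 1), (15, 2), (16, 1), (26, 1), (27, 2)], [(6, 1), (19, 2), (21, 1)], [(11, 1), (19, -1), (20, -1), (26, -1), (27, -2)], [(12, 1)], [(17, 1), (20, -1), (25, 1), (26, 1), (27, -1)], [(23, -1), (26, 1), (27, 1)], [(24, -1), (25, 1), (26, 1), (27, -1)], [(13, -1), (18, 1), (22, -1), (23, -1), (25, 1), (26, 1), (27, 1)], [(16, -1), (17, -1), (22, -1), (23, -1), (24, -2), (25, 1), (26, 1), (27, -1)]]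
  sec := [[(0, 1)], [(1, 1)], [(7, -1)], [(3, 1)], [(9, -1)], [(13, -1)], [(11, -1)]]
  C := [[(0, 1)], [(1, 1)], [(2, 2), (4, -2), (5, -2), (6, 2)], [(3, 1)], [(4, 2)], [(5, 2), (6, -2)], [(6, 2)], [(2, -1)], [], [(4, -1)], [], [(6, -1)], [], [(5, -1)], [(6, -1)], [(5, -1), (6, 1)], [], [], [(5, -1)], [(6, -1)], [], [], [], [], [], [], [], []]
  e := [[(13, -1), (14, 1), (15, 1)]]
  d := [4]
  A := [[], [], [(0, 2)], [], [], [(0, 2)], [], [], [(0, 2)], [], [], [], [], [], [(0, 1)], [], [(0, 2)], [], [(0, 2)], [(0, 2)], [(0, 2)], [], [], [], [(0, 2)], [(0, 2)], [], []]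
  sels := [[], [], [(2, 1), (12, -1), (8, 1), (10, -3), (23, 5), (13, -10), (24, -7), (4, 4), (22, 18), (1, 26), (20, -28), (19, 16), (18, 12), (11, -12), (5, -2), (21, 2), (9, -17), (6, 1), (14, -13)], [], [(12, 1), (24, -1), (19, 1), (18, 1), (11, -1), (21, 1), (22, 2), (13, -1), (14, -1), (9, -1), (1, 2), (20, -2)], [(8, 1), (10, 20), (11, -14), (6, -10), (23, -2), (13, 2), (4, -2), (19, -17), (18, 5), (21, 21), (14, 3), (9, 14), (5, -11), (20, -1), (16, 22), (2, 22), (0, 22), (3, -11), (15, -22), (17, 11), (12, 22), (7, 22)], [(23, 4), (10, -18), (11, 7), (1, 12), (6, 10), (22, 9), (19, 21), (18, 1), (13, -7), (4, 3), (14, -8), (9, -19), (5, 8), (24, -4), (21, -17), (20, -12), (16, -18), (2, -18), (0, -18), (3, 9), (15, 18), (17, -9), (12, -18), (7, -18)], [], [(5, 1), (2, -3), (0, -3), (12, -1), (7, -1), (23, 1), (9, -6), (18, 3), (10,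 -3), (11, -1), (1, 8), (13, -4), (6, 2), (19, 6), (24, -3), (22, 7), (14, -4), (8, 1), (21, -1), (20, -8), (16, -2), (3, 1), (15, 2), (17, -1)], [], [(12, -1), (7, -1), (24, 1), (19, -1), (18, -1), (11, 1), (21, -1), (22, -2), (13, 1), (14, 1), (9, 1), (1, -2), (20, 2)], [], [(23, -2), (9, 8), (6, -4), (19, -9), (24, 2), (4, -1), (11, -4), (22, -4), (13, 3), (14, 3), (5, -4), (10, 8), (1, -4), (21, 8), (20, 4), (16, 8), (2, 8), (0, 8), (3, -4), (15, -8), (17, 4), (12, 8), (7, 8)], [], [(23, -1), (10, 9), (11, -7), (6, -5), (19, -7), (18, 3), (13, 1), (4, -1), (14, 1), (9, 6), (5, -5), (1, 1), (21, 10), (20, -1), (16, 10), (2, 10), (0, 10), (3, -5), (15, -10), (17, 5), (12, 10), (7, 10)], [(10, -9), (11, 7), (23, 1), (6, 5), (19, 7), (18, -3), (13, -1), (4, 1), (14, -1), (9, -6), (5, 5), (1, -1), (21, -10), (20, 1), (16, -10), (2, -10), (0,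 -10), (3, 5), (15, 10), (17, -5), (12, -10), (7, -10)], [(1, 15), (4, 1), (19, 7), (18, 7), (11, -7), (13, -6), (14, -7), (9, -8), (23, 2), (8, 1), (5, -2), (24, -4), (21, 3), (22, 10), (20, -15), (16, 2), (2, 2), (0, 2), (3, -1), (15, -2), (17, 1), (12, 2), (7, 2)], [(1, -1)], [(23, 1), (24, -3), (6, -2), (4, 1), (19, 3), (18, 7), (11, -9), (22, 8), (13, -4), (14, -5), (9, -4), (8, 1), (5, -4), (10, 4), (1, 12), (21, 7), (20, -13), (16, 6), (2, 6), (0, 6), (3, -3), (15, -6), (17, 3), (12, 6), (7, 6)], [(9, 2), (6, -5), (19, -4), (11, -11), (24, -2), (18, 7), (22, 6), (13, -2), (14, -3), (8, 1), (5, -7), (10, 10), (1, 9), (21, 13), (20, -10), (16, 12), (2, 12), (0, 12), (3, -6), (15, -12), (17, 6), (12, 12), (7, 12)], [(19, 7), (18, 7), (11, -7), (13, -6), (4, 2), (14, -7), (9, -8), (23, 2), (8, 1), (5, -2), (1, 14), (24, -4), (21, 3), (22,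 10), (20, -15), (16, 2), (2, 2), (0, 2), (3, -1), (15, -2), (17, 1), (12, 2), (7, 2), (6, 1)], [(19, 1), (18, 1), (11, -1), (21, 1), (22, 1), (14, -1), (9, -1), (1, 2), (20, -2)], [(24, 1), (19, -1), (18, -1), (11, 1), (21, -1), (22, -2), (13, 1), (14, 1), (9, 1), (1, -2), (20, 2)], [(21, 1), (11, -1), (1, 1), (20, -1), (19, 1), (18, 1)], [(22, 11), (19, 7), (18, 7), (11, -7), (13, -6), (4, 2), (14, -7), (9, -8), (23, 2), (8, 1), (5, -2), (1, 15), (24, -4), (21, 3), (20, -16), (16, 2), (2, 2), (0, 2), (3, -1), (15, -2), (17, 1), (12, 2), (7, 2), (6, 1)], [(19, 10), (18, 6), (11, -4), (13, -6), (6, 3), (4, 2), (14, -7), (9, -10), (23, 2), (8, 1), (10, -4), (1, 14), (24, -4), (21, -1), (22, 10), (20, -15), (16, -2), (2, -2), (0, -2), (3, 1), (15, 2), (17, -1), (12, -2), (7, -2)], [(11, -2), (1, 1), (20, -1), (19, -1), (18, 1), (16, 2), (5, -1),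 (2, 2), (0, 2), (3, -1), (15, -2), (21, 2), (17, 1), (9, 1), (6, -1), (10, 2), (12, 2), (7, 2)], [(19, 2), (11, 1), (16, -2), (5, 1), (2, -2), (0, -2), (3, 1), (15, 2), (21, -2), (17, -1), (9, -1), (6, 1), (10, -2), (12, -2), (7, -2)]]
  dsels := [[(23, -4), (8, -2), (5, 4), (9, 15), (18, -14), (1, -28), (13, 11), (6, -1), (4, -3), (19, -14), (24, 8), (11, 14), (21, -6), (22, -20), (14, 13), (20, 30), (16, -4), (2, -4), (0, -4), (3, 2), (15, 4), (17, -2), (12, -4), (7, -4)]]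

end CfsgLib.CentralCert.MTwentyTwo
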