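/-
Shared definitions for the multiplier of M22, one prime.
-/
import Cfsg.Agent.CentralCert.PermModel
import Cfsg.Agent.CentralCert.MTwentyTwoTwoUpper
import Cfsg.Agent.CentralCert.MTwentyTwoTwoLower

set_option autoImplicit false

namespace CfsgLib.CentralCert.MTwentyTwo.Two

/-- The coded generators. -/
def base : List ℕ := [976290274282480484151276389272802624, 971500264725670008787126919053919840,
  984069128024227946405588394875363392, 980739963107704074295681222086630560]

/-- The point set distinguishing the cosets. -/
def key (X : ℕ) : ℕ := Perms.preMask 2050 X

/-- The decoding of values. -/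
def dec (c : ℕ) : ZMod 4 := (c : ZMod 4)

end CfsgLib.CentralCert.MTwentyTwo.Two
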