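/-
A test for the multiplier of M22.
-/
import Cfsg.Agent.CentralCert.MTwentyTwoTwoDefs

set_option autoImplicit false
set_option maxRecDepth 100000
set_option maxHeartbeats 4000000

namespace CfsgLib.CentralCert.MTwentyTwo.Two

theorem lower_cos : lowerTwo.cosOK Perms.pone Perms.pmul base tabsTwo key = true := by
  decide +kernel

end CfsgLib.CentralCert.MTwentyTwo.Two
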