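/-
A test for the multiplier of M22.
-/
import Cfsg.Agent.CentralCert.MTwentyTwoTwoDefs

set_option autoImplicit false
set_option maxRecDepth 100000
set_option maxHeartbeats 4000000

namespace CfsgLib.CentralCert.MTwentyTwo.Two

theorem lower_grp : lowerTwo.grpOK Perms.pone Perms.pmul tabsTwo = true := by
  decide +kernel

theorem lower_light : lowerTwo.lightOK dec = true := by
  decide +kernel

theorem key_invariant : (lowerTwo.gens.all fun g => (List.range 24).all fun v => Nat.beq (2050 / 2 ^ digit 32 (look tabsTwo.E g) v % 2) (2050 / 2 ^ v % 2)) = true := by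
  decide +kernel

end CfsgLib.CentralCert.MTwentyTwo.Two
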