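/-
A test for the multiplier of M22.
-/
import Cfsg.Agent.CentralCert.MTwentyTwoTwoDefs

set_option autoImplicit false
set_option maxRecDepth 100000
set_option maxHeartbeats 4000000

namespace CfsgLib.CentralCert.MTwentyTwo.Two

theorem lower_wit : lowerTwo.witOK Perms.pone Perms.pmul base tabsTwo = true := by
  decide +kernel

theorem values_eq : lowerTwo.values dec = [(1 : ZMod 4)] := by
  decide +kernel

end CfsgLib.CentralCert.MTwentyTwo.Two
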