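/-
The multiplier of M22.
-/
import Cfsg.Agent.CentralCert.Assemble
import Cfsg.Agent.CentralCert.MTwentyTwoTwoTabsOK
import Cfsg.Agent.CentralCert.MTwentyTwoTwoLightOK
import Cfsg.Agent.CentralCert.MTwentyTwoTwoCosOK
import Cfsg.Agent.CentralCert.MTwentyTwoTwoWitOK
import Cfsg.Agent.CentralCert.MTwentyTwoTwoUpOK
import Cfsg.Agent.CentralCert.MTwentyTwoThreeTabsOK
import Cfsg.Agent.CentralCert.MTwentyTwoThreeLightOK
import Cfsg.Agent.CentralCert.MTwentyTwoThreeCosOK
import Cfsg.Agent.CentralCert.MTwentyTwoThreeWitOK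
import Cfsg.Agent.CentralCert.MTwentyTwoThreeUpOK
import Cfsg.Agent.Golay.OutTwo22
import Cfsg.Agent.Golay.Mathieu

set_option autoImplicit false
set_option maxHeartbeats 1000000
set_option maxRecDepth 100000

namespace CfsgLib.CentralCert.MTwentyTwo

open Cfsg CfsgLib.Golay CfsgLib.Golay.Cert CfsgLib.ExtCert MulAction
open scoped commutatorElement

/-- The position lists of the generators. -/
def baseL : List (List ℕ) := Two.base.map fun X => (List.range 24).map fun k => digit 32 X k

theorem base_facts : baseL.all (fun L => Cert.genOK L && Nat.beq (L.getD 23 0) 23 && Nat.beq (L.getD 0 0) 0) = true ∧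
    baseL.map Perms.pack = Two.base ∧ Three.base = Two.base ∧
    Perms.pmul (Two.base.getD 0 0) (Two.base.getD 1 0) ≠ Perms.pmul (Two.base.getD 1 0) (Two.base.getD 0 0) := by
  decide +kernel

theorem lens : (lowerTwo.T.length * lowerTwo.W.length = 443520 ∧ lowerThree.T.length * lowerThree.W.length = 443520) ∧
    (upperTwo.e.length = 1 ∧ upperThree.e.length = 1) ∧
    3465 * upperTwo.NF.length = 443520 ∧ 49280 * upperThree.NF.length = 443520 ∧
    upperTwo.d.getD 0 0 = 4 ∧ upperThree.d.getD 0 0 = 3 := by decide +kernel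

theorem coprime_bound : ∀ e < 666, e ^ 2 ∣ 443520 → e.Coprime 385 := by decide +kernel

attribute [local irreducible] packN Perms.pack Perms.pmul digit toList in
theorem perfect : commutator Spor.M22 = ⊤ := by
  classical
  let e : ↥Spor.M22 ≃* ↥(stabilizer M24 (none : GolayPt) ⊓ stabilizer M24 (some 0 : GolayPt)) :=
    { toFun := fun g => ⟨⟨g.1, (mem_m22.mp g.2).1⟩, (mem_m22.mp g.2).2.1, (mem_m22.mp g.2).2.2⟩
      invFun := fun g => ⟨g.1.1, mem_m22.mpr ⟨g.1.2, g.2.1, g.2.2⟩⟩
      left_inv := fun _ => rfl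
      right_inv := fun _ => rfl
      map_mul' := fun _ _ => rfl }
  haveI := m22_simple (none : GolayPt) (some 0) (by simp)
  haveI : IsSimpleGroup ↥Spor.M22 := by
    haveI : Nontrivial ↥Spor.M22 := e.toEquiv.nontrivial
    exact IsSimpleGroup.isSimpleGroup_of_surjective e.symm.toMonoidHom e.symm.surjective
  refine (IsSimpleGroup.eq_bot_or_eq_top_of_normal (commutator Spor.M22) inferInstance).resolve_left fun hb => ?_
  obtain ⟨hgen, hpack, -, hne⟩ := base_facts
  simp only [List.all_eq_true, Bool.and_eq_true, Nat.beq_eq] at hgen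
  have hex : ∀ L ∈ baseL, ∃ g : Spor.M22, Perms.pack (toList (g : Equiv.Perm GolayPt)) = Perms.pack L := by
    intro L hL
    obtain ⟨g, hg⟩ := Cert.genOK_spec (hgen L hL).1.1
    have hp : ∀ p : GolayPt, L.getD (idx p) 0 = idx p → (g : Equiv.Perm GolayPt) p = p := fun p hp =>
      idx_injective (by rw [← toList_getD_idx, hg, hp])
    exact ⟨⟨g, mem_m22.mpr ⟨g.2, hp none (hgen L hL).1.2, hp (some 0) (hgen L hL).2⟩⟩, by rw [hg]⟩
  obtain ⟨a, ha⟩ := hex (baseL.getD 0 []) (by simp [baseL, Two.base])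
  obtain ⟨b, hb'⟩ := hex (baseL.getD 1 []) (by simp [baseL, Two.base])
  have hget : ∀ i, i < 4 → Perms.pack (baseL.getD i []) = Two.base.getD i 0 := fun i hi => by
    rw [← hpack, List.getD_eq_getElem _ _ (by simp [baseL, Two.base]; omega),
      List.getD_eq_getElem _ _ (by simp [baseL, Two.base]; omega), List.getElem_map]
  have hab : a * b = b * a := by
    have hm : ⁅a, b⁆ ∈ commutator Spor.M22 :=
      Subgroup.commutator_mem_commutator (Subgroup.mem_top _) (Subgroup.mem_top _)
    rw [hb, Subgroup.mem_bot] at hm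
    exact commutatorElement_eq_one_iff_mul_comm.mp hm
  apply hne
  rw [← hget 0 (by norm_num), ← hget 1 (by norm_num), ← ha, ← hb', ← Perms.pack_mul, ← Perms.pack_mul]
  rw [← Subgroup.coe_mul, ← Subgroup.coe_mul, hab]

attribute [local irreducible] packN in
theorem main : Cfsg.HasCyclicSchurMultiplier ↥Spor.M22 12 := by
  classical
  obtain ⟨hgen, hpack, hbase3, -⟩ := base_facts
  simp only [List.all_eq_true, Bool.and_eq_true, Nat.beq_eq] at hgen
  let md := Perms.model Spor.M22
  have hone : md.one = Perms.pone := rfl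
  have hmul : md.mul = Perms.pmul := rfl
  have hex : ∀ i, ∃ g : Spor.M22, md.enc g = Two.base.getD i md.one := by
    intro i
    rcases lt_or_ge i Two.base.length with hi | hi
    · have hi' : i < baseL.length := by simpa [baseL] using hi
      obtain ⟨g, hg⟩ := Cert.genOK_spec (hgen _ (List.getElem_mem hi')).1.1
      have hp : ∀ p : GolayPt, (baseL[i]).getD (idx p) 0 = idx p → (g : Equiv.Perm GolayPt) p = p := fun p hp =>
        idx_injective (by rw [← toList_getD_idx, hg, hp])
      refine ⟨⟨g, mem_m22.mpr ⟨g.2, hp none (hgen _ (List.getElem_mem hi')).1.2,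
        hp (some 0) (hgen _ (List.getElem_mem hi')).2⟩⟩, ?_⟩
      show Perms.pack (toList (g : Equiv.Perm GolayPt)) = _
      rw [hg, List.getD_eq_getElem _ _ hi]
      simp only [← hpack, List.getElem_map]
    · exact ⟨1, by rw [md.enc_one, List.getD_eq_default _ _ hi]⟩
  choose x hx using hex
  have hx3 : ∀ i, md.enc (x i) = Three.base.getD i md.one := by rw [hbase3]; exact hx
  have hcard : Nat.card ↥Spor.M22 = 443520 := card_m22
  obtain ⟨⟨l2, l3⟩, ⟨e2, e3⟩, m2, m3, d2, d3⟩ := lens
  have hf2 : ∀ g ∈ lowerTwo.gens, ∀ y : Spor.M22,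
      Two.key (md.mul (look tabsTwo.E g) (md.enc y)) = Two.key (md.enc y) := by
    intro g hg y
    refine Perms.preMask_invariant (fun v hv => ?_) y
    have h := Two.key_invariant
    simp only [List.all_eq_true, List.mem_range, Nat.beq_eq] at h
    exact h g hg v hv
  have hf3 : ∀ g ∈ lowerThree.gens, ∀ y : Spor.M22,
      Three.key (md.mul (look tabsThree.E g) (md.enc y)) = Three.key (md.enc y) := by
    intro g hg y
    refine Perms.preMask_invariant (fun v hv => ?_) y
    have h := Three.key_invariant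
    simp only [List.all_eq_true, List.mem_range, Nat.beq_eq] at h
    exact h g hg v hv
  obtain ⟨c2, W2, hW2, hg2⟩ := Lower.exists_cocycle md lowerTwo tabsTwo hx Two.dec
    (by rw [hone, hmul]; exact Two.lower_tabs) (by rw [hone, hmul]; exact Two.lower_grp) Two.lower_light
    (f := Two.key) (by rw [hone, hmul]; exact Two.lower_cos) (by rw [hone, hmul]; exact Two.lower_wit)
    (l2.trans hcard.symm) (by
      rw [Two.values_eq, eq_top_iff]
      intro a _
      rw [show a = a.val • (1 : ZMod 4) by simp]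
      exact AddSubgroup.nsmul_mem _ (AddSubgroup.subset_closure (by simp)) _) hf2
  obtain ⟨c3, W3, hW3, hg3⟩ := Lower.exists_cocycle md lowerThree tabsThree hx3 Three.dec
    (by rw [hone, hmul]; exact Three.lower_tabs) (by rw [hone, hmul]; exact Three.lower_grp) Three.lower_light
    (f := Three.key) (by rw [hone, hmul]; exact Three.lower_cos) (by rw [hone, hmul]; exact Three.lower_wit)
    (l3.trans hcard.symm) (by
      rw [Three.values_eq, eq_top_iff]
      intro a _
      have key : ∀ a : ZMod 3, ∃ i < 3, a = i • (2 : ZMod 3) := by decide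
      obtain ⟨i, -, rfl⟩ := key a
      exact AddSubgroup.nsmul_mem _ (AddSubgroup.subset_closure (by simp)) i) hf3
  let q : Multiplicative (ZMod 3 × ZMod 4) ≃* Multiplicative (ZMod 12) :=
    AddEquiv.toMultiplicative (ZMod.chineseRemainder (show Nat.Coprime 3 4 by norm_num)).toAddEquiv.symm
  obtain ⟨Γ, iG, iF, σ, hσ, ⟨i⟩⟩ := exists_stem_prod (a := 3) (b := 4) (by norm_num) (by decide) (by decide)
    perfect c3 c2 W3 W2 hW3 hW2 hg3 hg2
  refine ⟨⟨Γ, iG, iF, σ, hσ, ⟨i.trans q⟩⟩, fun Δ _ _ τ hτ => ?_⟩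
  obtain ⟨E, hE, hEd, hgenE⟩ := Upper.bound md upperTwo hx (by rw [hone, hmul]; exact Two.upper_ok) hτ
  obtain ⟨E', hE', hEd', hgenE'⟩ := Upper.bound md upperThree hx3
    (by rw [hone, hmul, hbase3]; exact hbase3 ▸ Three.upper_ok) hτ
  have hy3 := hEd' 0 (by rw [e3]; norm_num)
  have hy4 := hEd 0 (by rw [e2]; norm_num)
  rw [d3] at hy3
  rw [d2] at hy4
  let F : ℕ → Δ := fun j => if j = 0 then E' 0 else E 0
  suffices hfin : ∀ w ∈ τ.ker, w ∈ Subgroup.closure {y | ∃ i < 2, F i = y} by
    obtain ⟨π, hπ⟩ := exists_surj_two (a := 3) (b := 4) hτ.2.1 F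
      (fun j => by simp only [F]; split <;> [exact hE' 0; exact hE 0]) hy3 hy4 hfin
    exact ⟨π.comp q.symm.toMonoidHom, hπ.comp q.symm.surjective⟩
  refine fun w hw => pow_coprime_mem hτ (m := 385) (fun e he => ?_) (fun z hz => ?_) hw
  · rw [hcard] at he
    have hle : e < 666 := by
      by_contra hc
      have h666 : 666 ^ 2 ≤ e ^ 2 := Nat.pow_le_pow_left (not_lt.mp hc) 2
      have := Nat.le_of_dvd (by norm_num) he
      omega
    exact coprime_bound e hle he
  · have ha := hgenE z hz 3465 (m2.trans hcard.symm)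
    have hb := hgenE' z hz 49280 (m3.trans hcard.symm)
    rw [e2] at ha
    rw [e3] at hb
    have hsA : Subgroup.closure {y | ∃ i < 1, E i = y} ≤ Subgroup.closure {y | ∃ i < 2, F i = y} :=
      Subgroup.closure_mono (by rintro y ⟨i, hi, rfl⟩; interval_cases i; exact ⟨1, by norm_num, by simp [F]⟩)
    have hsB : Subgroup.closure {y | ∃ i < 1, E' i = y} ≤ Subgroup.closure {y | ∃ i < 2, F i = y} :=
      Subgroup.closure_mono (by rintro y ⟨i, hi, rfl⟩; interval_cases i; exact ⟨0, by norm_num, by simp [F]⟩)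
    obtain ⟨u, v, huv⟩ : ∃ u v : ℤ, (385 : ℤ) = 3465 * u + 49280 * v :=
      ⟨Nat.gcdA 3465 49280, Nat.gcdB 3465 49280, by
        have h := Nat.gcd_eq_gcd_ab 3465 49280
        norm_num at h ⊢
        linarith⟩
    have hpow : z ^ 385 = (z ^ 3465) ^ u * (z ^ 49280) ^ v := by
      rw [← zpow_natCast z 3465, ← zpow_natCast z 49280, ← zpow_mul, ← zpow_mul, ← zpow_add, ← zpow_natCast]
      push_cast
      rw [huv]
    rw [hpow]
    exact mul_mem (zpow_mem (hsA ha) _) (zpow_mem (hsB hb) _)

end CfsgLib.CentralCert.MTwentyTwo
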