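/-
The bound from a polycyclic presentation of a p-subgroup, without enumerating its rewriting.
-/
import Cfsg.Agent.CentralCert.Upper

set_option autoImplicit false

namespace CfsgLib.CentralCert

open CfsgLib.ExtCert

/-- A binary search tree of numbers. -/
inductive Bst where
  | leaf
  | node (l : Bst) (a : ℕ) (r : Bst)

namespace Bst

/-- Search. -/
def has : Bst → ℕ → Bool
  | leaf, _ => false
  | node l a r, x => if Nat.beq x a then true else if Nat.blt x a then l.has x else r.has x

/-- Insertion of a new number. -/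
def ins : Bst → ℕ → Option Bst
  | leaf, x => some (node leaf x leaf)
  | node l a r, x =>
    if Nat.beq x a then none
    else if Nat.blt x a then (l.ins x).map fun l' => node l' a r
    else (r.ins x).map fun r' => node l a r'

theorem ins_spec : ∀ (t : Bst) (x : ℕ) (t' : Bst), t.ins x = some t' →
    t.has x = false ∧ t'.has x = true ∧ ∀ y, t.has y = true → t'.has y = true := by
  intro t x
  induction t with
  | leaf => intro t' h; simp only [ins, Option.some.injEq] at h; subst h; simp [has]
  | node l a r ihl ihr =>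
    intro t' h
    rw [ins] at h
    split at h
    · simp at h
    next h1 =>
      split at h
      all_goals
        rename_i h2
        obtain ⟨u, hu, rfl⟩ := Option.map_eq_some_iff.mp h
      · obtain ⟨e1, e2, e3⟩ := ihl u hu
        refine ⟨by simp only [has]; rw [if_neg h1, if_pos h2, e1],
          by simp only [has]; rw [if_neg h1, if_pos h2, e2], fun y => ?_⟩
        simp only [has]
        split_ifs <;> first | exact e3 y | exact id
      · obtain ⟨e1, e2, e3⟩ := ihr u hu
        refine ⟨by simp only [has]; rw [if_neg h1, if_neg h2, e1],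
          by simp only [has]; rw [if_neg h1, if_neg h2, e2], fun y => ?_⟩
        simp only [has]
        split_ifs <;> first | exact e3 y | exact id

/-- All members are new. -/
def fresh : Bst → List ℕ → Bool
  | _, [] => true
  | t, x :: l => forceN x fun x =>
    match t.ins x with
    | none => false
    | some t' => fresh t' l

theorem fresh_spec : ∀ (l : List ℕ) (t : Bst), fresh t l = true →
    l.Nodup ∧ ∀ y ∈ l, t.has y = false := by
  intro l
  induction l with
  | nil => intro t _; simp
  | cons x l ih =>
    intro t h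
    rw [fresh, forceN_eq] at h
    split at h
    · simp at h
    next t' ht =>
      obtain ⟨hn, hl⟩ := ih t' h
      obtain ⟨e1, e2, e3⟩ := ins_spec t x t' ht
      refine ⟨List.nodup_cons.mpr ⟨fun hx => ?_, hn⟩, fun y hy => ?_⟩
      · simp [hl x hx] at e2
      · rcases List.mem_cons.mp hy with rfl | hy
        · exact e1
        · cases hh : t.has y with
          | false => rfl
          | true => exact absurd (e3 y hh) (by simp [hl y hy])

end Bst

/-- The standard words on the letters `k, ..., k + d - 1`. -/
def stdWords (p : ℕ) : ℕ → ℕ → List (List ℕ)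
  | _, 0 => [[]]
  | k, d + 1 => (List.range p).flatMap fun e => (stdWords p (k + 1) d).map fun u => List.replicate e k ++ u

theorem stdWords_mem {p : ℕ} : ∀ (d k : ℕ), ∀ w ∈ stdWords p k d, ∀ i ∈ w, k ≤ i ∧ i < k + d := by
  intro d
  induction d with
  | zero => intro k w hw; simp [stdWords] at hw; simp [hw]
  | succ d ih =>
    intro k w hw i hi
    simp only [stdWords, List.mem_flatMap, List.mem_range, List.mem_map] at hw
    obtain ⟨e, -, u, hu, rfl⟩ := hw
    rcases List.mem_append.mp hi with hi | hi
    · rw [List.mem_replicate] at hi; omega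
    · have := ih (k + 1) u hu i hi; omega

theorem nil_mem_stdWords {p : ℕ} (hp : 0 < p) : ∀ d k : ℕ, [] ∈ stdWords p k d := by
  intro d
  induction d with
  | zero => intro k; simp [stdWords]
  | succ d ih =>
    intro k
    simp only [stdWords, List.mem_flatMap, List.mem_range, List.mem_map]
    exact ⟨0, hp, [], ih (k + 1), rfl⟩

/-- The relations are those of a polycyclic presentation with all relative orders `p`. -/
def pcShape (rels : List (List ℕ × List ℕ)) (p n : ℕ) : Bool :=
  let high := fun (i : ℕ) (u : List ℕ) => u.all fun a => Nat.blt i a && Nat.blt a n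
  (List.range n).all fun i =>
    (rels.any fun lr => decide (lr.1 = List.replicate p i) && high i lr.2) &&
    (List.range n).all fun j => !(Nat.blt i j) ||
      rels.any fun lr => decide (lr.1 = [j, i]) &&
        (match lr.2 with
          | a :: u => Nat.beq a i && high i u
          | [] => false)

variable {rels : List (List ℕ × List ℕ)} {p n : ℕ}

theorem rew_of_mem {l r : List ℕ} (h : (l, r) ∈ rels) (a b : List ℕ) :
    ∃ f, Rew rels (a ++ l ++ b) (a ++ r ++ b) f := by
  obtain ⟨k, hk, e⟩ := List.mem_iff_getElem.mp h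
  have e' : rels.getD k ([], []) = (l, r) := by rw [List.getD_eq_getElem _ _ hk, e]
  have := Rew.step (rels := rels) (pre := a) (suf := b) hk (by rw [e']; exact Rew.refl (a ++ l ++ b))
  rw [e'] at this
  exact ⟨_, this⟩

/-- Every word reduces to a standard word. -/
theorem reduce_std (hp : 0 < p) (hok : pcShape rels p n = true) : ∀ (d k : ℕ), k + d = n →
    ∀ w : List ℕ, (∀ i ∈ w, k ≤ i ∧ i < n) → ∃ v ∈ stdWords p k d, ∃ f, Rew rels w v f := by
  simp only [pcShape, Bool.and_eq_true, List.all_eq_true, List.any_eq_true, List.mem_range, Nat.blt_eq,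
    decide_eq_true_eq, Bool.or_eq_true, Bool.not_eq_true'] at hok
  intro d
  induction d with
  | zero =>
    intro k hk w hw
    have : w = [] := List.eq_nil_iff_forall_not_mem.mpr fun i hi => by have := hw i hi; omega
    exact ⟨[], by simp [stdWords], [], this ▸ .refl _⟩
  | succ d ih =>
    intro k hk
    have hkn : k < n := by omega
    obtain ⟨⟨⟨pl, pr⟩, hpm, hpe, hph⟩, hcomm⟩ := hok k hkn
    have hhigh : ∀ a b : List ℕ, (∀ i ∈ a, k < i ∧ i < n) → (∀ i ∈ b, k < i ∧ i < n) → ∀ i ∈ a ++ b, k < i ∧ i < n :=
      fun a b ha hb i hi => (List.mem_append.mp hi).elim (ha i) (hb i)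
    have push : ∀ w : List ℕ, (∀ i ∈ w, k < i ∧ i < n) → ∃ u, (∀ i ∈ u, k < i ∧ i < n) ∧
        ∃ f, Rew rels (w ++ [k]) ([k] ++ u) f := by
      intro w
      induction w using List.reverseRecOn with
      | nil => exact fun _ => ⟨[], by simp, [], .refl _⟩
      | append_singleton w j ihw =>
        intro hw
        obtain ⟨hj1, hj2⟩ := hw j (by simp)
        obtain ⟨u, hu, f, hf⟩ := ihw fun i hi => hw i (List.mem_append_left _ hi)
        rcases hcomm j hj2 with h | ⟨⟨cl, cr⟩, hcm, hce, hch⟩
        · exact absurd hj1 (by simpa [← Bool.not_eq_true, Nat.blt_eq] using h)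
        · subst hce
          cases cr with
          | nil => simp at hch
          | cons a u' =>
            simp only [Bool.and_eq_true, List.all_eq_true, Nat.blt_eq] at hch
            obtain ⟨ha, hu'⟩ := hch
            obtain rfl : a = k := Nat.eq_of_beq_eq_true ha
            obtain ⟨g, hg⟩ := rew_of_mem hcm w []
            refine ⟨u ++ u', hhigh _ _ hu hu', f ++ g, ?_⟩
            have h1 : Rew rels (w ++ [j] ++ [a]) ((w ++ [a]) ++ u') g := by simpa using hg
            have h2 : Rew rels ((w ++ [a]) ++ u') (([a] ++ u) ++ u') f := by simpa using hf.context [] u'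
            simpa using h1.trans h2
    have gather : ∀ w : List ℕ, (∀ i ∈ w, k ≤ i ∧ i < n) → ∃ m u, (∀ i ∈ u, k < i ∧ i < n) ∧
        ∃ f, Rew rels w (List.replicate m k ++ u) f := by
      intro w
      induction w using List.reverseRecOn with
      | nil => exact fun _ => ⟨0, [], by simp, [], .refl _⟩
      | append_singleton w j ihw =>
        intro hw
        obtain ⟨m, u, hu, f, hf⟩ := ihw fun i hi => hw i (List.mem_append_left _ hi)
        have h1 : Rew rels (w ++ [j]) (List.replicate m k ++ u ++ [j]) f := by simpa using hf.context [] [j]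
        obtain ⟨hj1, hj2⟩ := hw j (by simp)
        rcases Nat.eq_or_lt_of_le hj1 with rfl | hj
        · obtain ⟨u', hu', g, hg⟩ := push u hu
          refine ⟨m + 1, u', hu', g ++ f, h1.trans ?_⟩
          rw [List.replicate_succ', List.append_assoc]
          simpa using hg.context (List.replicate m k) []
        · exact ⟨m, u ++ [j], hhigh _ _ hu (by simp [hj, hj2]), f, by simpa using h1⟩
    have power : ∀ (m : ℕ) (u : List ℕ), (∀ i ∈ u, k < i ∧ i < n) → ∃ e < p, ∃ u', (∀ i ∈ u', k < i ∧ i < n) ∧
        ∃ f, Rew rels (List.replicate m k ++ u) (List.replicate e k ++ u') f := by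
      intro m
      induction m using Nat.strong_induction_on with
      | _ m ihm =>
        intro u hu
        rcases Nat.lt_or_ge m p with hm | hm
        · exact ⟨m, hm, u, hu, [], .refl _⟩
        · subst hpe
          obtain ⟨g, hg⟩ := rew_of_mem hpm (List.replicate (m - p) k) u
          obtain ⟨e, he, u', hu', f, hf⟩ := ihm (m - p) (by omega) (pr ++ u) (hhigh _ _ hph hu)
          refine ⟨e, he, u', hu', f ++ g, Rew.trans ?_ hf⟩
          rw [show List.replicate m k = List.replicate (m - p) k ++ List.replicate p k by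
            rw [← List.replicate_add, Nat.sub_add_cancel hm]]
          simpa using hg
    intro w hw
    obtain ⟨m, u, hu, f, hf⟩ := gather w hw
    obtain ⟨e, he, u', hu', g, hg⟩ := power m u hu
    obtain ⟨v, hv, q, hq⟩ := ih (k + 1) (by omega) u' fun i hi => by have := hu' i hi; omega
    refine ⟨List.replicate e k ++ v, ?_, q ++ (g ++ f), (hf.trans hg).trans ?_⟩
    · simp only [stdWords, List.mem_flatMap, List.mem_range, List.mem_map]
      exact ⟨e, he, v, hv, rfl⟩
    · simpa using hq.context (List.replicate e k) []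

/-- Multiply every member by a number and pass on the list. -/
def mapMulK {γ : Type} (mul : ℕ → ℕ → ℕ) (g : ℕ) : List ℕ → (List ℕ → γ) → γ
  | [], k => k []
  | a :: l, k => forceN (mul g a) fun b => mapMulK mul g l fun l' => k (b :: l')

theorem mapMulK_eq {γ : Type} (mul : ℕ → ℕ → ℕ) (g : ℕ) : ∀ (l : List ℕ) (k : List ℕ → γ),
    mapMulK mul g l k = k (l.map (mul g)) := by
  intro l
  induction l with
  | nil => intro k; rfl
  | cons a l ih => intro k; rw [mapMulK, forceN_eq, ih, List.map_cons]

/-- The translates of a list by the first powers of a number. -/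
def blocksK {γ : Type} (mul : ℕ → ℕ → ℕ) (g : ℕ) : ℕ → List ℕ → (List ℕ → γ) → γ
  | 0, _, k => k []
  | e + 1, L, k => mapMulK mul g L fun L' => blocksK mul g e L' fun r => k (L ++ r)

theorem blocksK_eq {γ : Type} (mul : ℕ → ℕ → ℕ) (g : ℕ) : ∀ (e : ℕ) (L : List ℕ) (k : List ℕ → γ),
    blocksK mul g e L k = k ((List.range e).flatMap fun i => (List.map (mul g))^[i] L) := by
  intro e
  induction e with
  | zero => intro L k; rfl
  | succ e ih =>
    intro L k
    rw [blocksK, mapMulK_eq, ih, List.range_succ_eq_map, List.flatMap_cons, List.flatMap_map]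
    rfl

/-- The codes of the standard words. -/
def stdCodesK {γ : Type} (p one : ℕ) (mul : ℕ → ℕ → ℕ) (T : List ℕ) : ℕ → ℕ → (List ℕ → γ) → γ
  | _, 0, k => k [one]
  | a, d + 1, k => stdCodesK p one mul T (a + 1) d fun L => forceN (T.getD a one) fun g => blocksK mul g p L k

theorem stdCodesK_eq {γ : Type} (p one : ℕ) (mul : ℕ → ℕ → ℕ) (T : List ℕ) : ∀ (d a : ℕ) (k : List ℕ → γ),
    stdCodesK p one mul T a d k = k ((stdWords p a d).map (tab one mul T)) := by
  intro d
  induction d with
  | zero => intro a k; rfl
  | succ d ih =>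
    intro a k
    rw [stdCodesK, ih, forceN_eq, blocksK_eq, stdWords, List.map_flatMap]
    congr 1
    have : ∀ i, (List.map (mul (T.getD a one)))^[i] ((stdWords p (a + 1) d).map (tab one mul T)) =
        ((stdWords p (a + 1) d).map fun u => List.replicate i a ++ u).map (tab one mul T) := by
      intro i
      induction i with
      | zero => simp
      | succ i ihi =>
        rw [Function.iterate_succ_apply', ihi]
        simp [List.map_map, Function.comp_def, List.replicate_succ, tab]
    simp only [this]

/-- The tests for a subgroup with a polycyclic presentation, given the codes of its generators. -/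
def Upper.pcOK (D : Upper) (p : ℕ) (one : ℕ) (mul : ℕ → ℕ → ℕ) (T : List ℕ) : Bool :=
  Nat.blt 0 p && pcShape D.rels p D.W.length &&
    stdCodesK p one mul T 0 D.W.length (Bst.fresh .leaf)

/-- The bound for a subgroup with a polycyclic presentation. -/
theorem Upper.bound_pc {G : Type*} [Group G] (md : Model G ℕ) (D : Upper) (p : ℕ)
    {x : ℕ → G} {B : List ℕ} (hx : ∀ i, md.enc (x i) = B.getD i md.one)
    (hNF : D.NF = stdWords p 0 D.W.length) (h1 : D.relsOK md.one md.mul B = true)
    (h2 : D.pcOK p md.one md.mul (D.sTab md.one md.mul B) = true)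
    (h3 : D.fusOK md.one md.mul B = true) (h4 : D.kOK = true) (h5 : D.secOK = true) (h6 : D.identOK = true)
    {Γ : Type*} [Group Γ] [Finite Γ] {σ : Γ →* G} (hσ : Cfsg.IsStemExtension σ) :
    ∃ E : ℕ → Γ, (∀ i, E i ∈ σ.ker) ∧ (∀ i < D.e.length, E i ^ D.d.getD i 0 = 1) ∧
      ∀ z ∈ σ.ker, ∀ m, m * D.NF.length = Nat.card G →
        z ^ m ∈ Subgroup.closure {y | ∃ i < D.e.length, E i = y} := by
  simp only [Upper.pcOK, Bool.and_eq_true, Nat.blt_eq] at h2
  obtain ⟨⟨hp, hsh⟩, hfr⟩ := h2
  rw [stdCodesK_eq] at hfr
  refine D.bound_of_red md hx h1 h3 (D.derived_of_kOK h4) h5 h6 ?_ ?_ ?_ (fun v hv i hi => ?_) hσ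
  · rw [hNF]; exact nil_mem_stdWords hp _ _
  · rw [hNF]; exact (Bst.fresh_spec _ _ hfr).1
  · intro v hv i hi
    have := stdWords_mem D.W.length 0 v (hNF ▸ hv) i hi
    omega
  · obtain ⟨v', hv', f, hf⟩ := reduce_std hp hsh D.W.length 0 (by omega) (v ++ [i]) fun a ha => by
      rcases List.mem_append.mp ha with ha | ha
      · have := stdWords_mem D.W.length 0 v (hNF ▸ hv) a ha; omega
      · rw [List.mem_singleton.mp ha]; omega
    exact ⟨v', hNF ▸ hv', f, hf⟩

/-- The standard words are distinct. -/
theorem stdWords_nodup (p : ℕ) : ∀ (d k : ℕ), (stdWords p k d).Nodup := by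
  intro d
  induction d with
  | zero => intro k; simp [stdWords]
  | succ d ih =>
    intro k
    rw [stdWords, List.nodup_flatMap]
    refine ⟨fun e _ => (ih (k + 1)).map fun u v h => List.append_cancel_left h, ?_⟩
    refine List.nodup_range.imp_of_mem fun {e e'} _ _ hee w hw hw' => ?_
    simp only [List.mem_map] at hw hw'
    obtain ⟨u, hu, rfl⟩ := hw
    obtain ⟨u', hu', h⟩ := hw'
    have c : ∀ (e : ℕ) (u : List ℕ), u ∈ stdWords p (k + 1) d → (List.replicate e k ++ u).count k = e := fun e u hu => by
      rw [List.count_append, List.count_replicate_self, List.count_eq_zero_of_not_mem fun hk => ?_, add_zero]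
      have := stdWords_mem d (k + 1) u hu k hk
      omega
    exact hee (by rw [← c e u hu, ← c e' u' hu', h])

theorem stdWords_split {p : ℕ} : ∀ (d₁ d₂ k : ℕ), ∀ w ∈ stdWords p k (d₁ + d₂),
    ∃ u ∈ stdWords p k d₁, ∃ v ∈ stdWords p (k + d₁) d₂, w = u ++ v := by
  intro d₁
  induction d₁ with
  | zero => intro d₂ k w hw; exact ⟨[], by simp [stdWords], w, by simpa using hw, rfl⟩
  | succ d ih =>
    intro d₂ k w hw
    rw [show d + 1 + d₂ = d + d₂ + 1 by omega] at hw
    simp only [stdWords, List.mem_flatMap, List.mem_range, List.mem_map] at hw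
    obtain ⟨e, he, w', hw', rfl⟩ := hw
    obtain ⟨u, hu, v, hv, rfl⟩ := ih d₂ (k + 1) w' hw'
    refine ⟨List.replicate e k ++ u, ?_, v, ?_, by rw [List.append_assoc]⟩
    · simp only [stdWords, List.mem_flatMap, List.mem_range, List.mem_map]
      exact ⟨e, he, u, hu, rfl⟩
    · rwa [show k + (d + 1) = k + 1 + d by omega]

/-- The bound for a subgroup with a polycyclic presentation and injective normal forms. -/
theorem Upper.bound_std {G : Type*} [Group G] (md : Model G ℕ) (D : Upper) (p : ℕ)
    {x : ℕ → G} {B : List ℕ} (hx : ∀ i, md.enc (x i) = B.getD i md.one)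
    (hNF : D.NF = stdWords p 0 D.W.length) (h1 : D.relsOK md.one md.mul B = true)
    (hp : 0 < p) (hsh : pcShape D.rels p D.W.length = true)
    (hnd : (D.NF.map (tab md.one md.mul (D.sTab md.one md.mul B))).Nodup)
    (h3 : D.fusOK md.one md.mul B = true) (h4 : ∀ f ∈ D.K, D.Derived f) (h5 : D.secOK = true)
    (h6 : D.identOK = true)
    {Γ : Type*} [Group Γ] [Finite Γ] {σ : Γ →* G} (hσ : Cfsg.IsStemExtension σ) :
    ∃ E : ℕ → Γ, (∀ i, E i ∈ σ.ker) ∧ (∀ i < D.e.length, E i ^ D.d.getD i 0 = 1) ∧
      ∀ z ∈ σ.ker, ∀ m, m * D.NF.length = Nat.card G →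
        z ^ m ∈ Subgroup.closure {y | ∃ i < D.e.length, E i = y} := by
  refine D.bound_of_red md hx h1 h3 h4 h5 h6 ?_ hnd ?_ (fun v hv i hi => ?_) hσ
  · rw [hNF]; exact nil_mem_stdWords hp _ _
  · intro v hv i hi
    have := stdWords_mem D.W.length 0 v (hNF ▸ hv) i hi
    omega
  · obtain ⟨v', hv', f, hf⟩ := reduce_std hp hsh D.W.length 0 (by omega) (v ++ [i]) fun a ha => by
      rcases List.mem_append.mp ha with ha | ha
      · have := stdWords_mem D.W.length 0 v (hNF ▸ hv) a ha; omega
      · rw [List.mem_singleton.mp ha]; omega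
    exact ⟨v', hNF ▸ hv', f, hf⟩

end CfsgLib.CentralCert
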