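/-
Distinctness of the normal forms from a second generating list of the same subgroup.
-/
import Cfsg.Agent.CentralCert.Polycyclic
import Mathlib.Data.List.Perm.Subperm

set_option autoImplicit false

namespace CfsgLib.CentralCert

open CfsgLib.ExtCert (ev ev_cons ev_nil ev_append)

theorem rew_ev {G : Type*} [Group G] {s : ℕ → G} {rels : List (List ℕ × List ℕ)}
    (hr : ∀ k < rels.length, ev s (rels.getD k ([], [])).1 = ev s (rels.getD k ([], [])).2)
    {u v : List ℕ} {f : ZForm} (h : Rew rels u v f) : ev s u = ev s v := by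
  induction h with
  | refl => rfl
  | step hk _ ih => rw [ih, ev_append, ev_append, ev_append, ev_append, hr _ hk]

theorem ev_flat {G : Type*} [Group G] (s : ℕ → G) (ws : List (List ℕ)) : ∀ v : List ℕ,
    ev (fun i => ev s (ws.getD i [])) v = ev s (v.flatMap fun i => ws.getD i []) := by
  intro v
  induction v with
  | nil => simp [ev_nil]
  | cons a v ih => rw [List.flatMap_cons, ev_cons, ih, ev_append]

/-- The test that words give the listed codes. -/
def wordsOK (one : ℕ) (mul : ℕ → ℕ → ℕ) (T Y : List ℕ) (ws : List (List ℕ)) (n : ℕ) : Bool :=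
  decide (ws.map (tab one mul T) = Y) && ws.all fun w => w.all fun a => Nat.blt a n

/-- Distinct products of a second list force distinct normal forms. -/
theorem Upper.nodup_switch {G : Type*} [Group G] (md : Model G ℕ) (D : Upper) (p : ℕ) {x : ℕ → G} {B : List ℕ}
    (hx : ∀ i, md.enc (x i) = B.getD i md.one) (hNF : D.NF = stdWords p 0 D.W.length)
    (h1 : D.relsOK md.one md.mul B = true) (hp : 0 < p) (hsh : pcShape D.rels p D.W.length = true)
    {T Y : List ℕ} {ws : List (List ℕ)} (hT : D.sTab md.one md.mul B = T)
    (hW : wordsOK md.one md.mul T Y ws D.W.length = true)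
    (hinj : ∀ y : ℕ → G, (∀ i, md.enc (y i) = Y.getD i md.one) →
      ∀ u ∈ stdWords p 0 D.W.length, ∀ v ∈ stdWords p 0 D.W.length, ev y u = ev y v → u = v) :
    (D.NF.map (tab md.one md.mul (D.sTab md.one md.mul B))).Nodup := by
  simp only [wordsOK, Bool.and_eq_true, decide_eq_true_eq, List.all_eq_true, Nat.blt_eq] at hW
  obtain ⟨hY, hlt⟩ := hW
  rw [hT, hNF]
  let s : ℕ → G := fun j => ev x (D.W.getD j [])
  have hs : ∀ i, md.enc (s i) = T.getD i md.one := fun i => by
    rw [← hT]
    show md.enc (ev x (D.W.getD i [])) = _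
    rw [md.tab_spec hx, Upper.sTab]
    rcases lt_or_ge i D.W.length with hi | hi
    · rw [List.getD_eq_getElem (D.W.map _) _ (by simpa using hi), List.getElem_map,
        List.getD_eq_getElem _ _ hi]
    · rw [List.getD_eq_default _ _ hi, List.getD_eq_default _ _ (by simpa using hi)]
      rfl
  have hr : ∀ k < D.rels.length, ev s (D.rels.getD k ([], [])).1 = ev s (D.rels.getD k ([], [])).2 := by
    intro k hk
    simp only [Upper.relsOK, List.all_eq_true, decide_eq_true_eq] at h1
    have := h1 _ (List.getElem_mem hk)
    rw [hT, ← md.tab_spec hs, ← md.tab_spec hs] at this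
    rw [List.getD_eq_getElem _ _ hk]
    exact md.inj this
  let y : ℕ → G := fun i => ev s (ws.getD i [])
  have hy : ∀ i, md.enc (y i) = Y.getD i md.one := fun i => by
    show md.enc (ev s (ws.getD i [])) = _
    rw [md.tab_spec hs, ← hY]
    rcases lt_or_ge i ws.length with hi | hi
    · rw [List.getD_eq_getElem (ws.map _) _ (by simpa using hi), List.getElem_map, List.getD_eq_getElem _ _ hi]
    · rw [List.getD_eq_default _ _ hi, List.getD_eq_default _ _ (by simpa using hi)]
      rfl
  have hsub : ((stdWords p 0 D.W.length).map (ev y)) ⊆ ((stdWords p 0 D.W.length).map (ev s)) := by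
    intro g hg
    obtain ⟨v, -, rfl⟩ := List.mem_map.mp hg
    obtain ⟨v', hv', f, hf⟩ := reduce_std hp hsh D.W.length 0 (by omega) (v.flatMap fun i => ws.getD i [])
      fun a ha => by
        obtain ⟨i, -, hi⟩ := List.mem_flatMap.mp ha
        rcases lt_or_ge i ws.length with h | h
        · rw [List.getD_eq_getElem _ _ h] at hi
          exact ⟨Nat.zero_le _, hlt _ (List.getElem_mem h) a hi⟩
        · rw [List.getD_eq_default _ _ h] at hi
          simp at hi
    exact List.mem_map.mpr ⟨v', hv', ((ev_flat s ws v).trans (rew_ev hr hf)).symm⟩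
  have hnd : ((stdWords p 0 D.W.length).map (ev y)).Nodup :=
    (stdWords_nodup p _ 0).map_on fun u hu v hv e => hinj y hy u hu v hv e
  have hnd' : ((stdWords p 0 D.W.length).map (ev s)).Nodup :=
    ((hnd.subperm hsub).perm_of_length_le (by simp)).nodup_iff.mp hnd
  rw [show (stdWords p 0 D.W.length).map (tab md.one md.mul T) =
      ((stdWords p 0 D.W.length).map (ev s)).map md.enc by
    rw [List.map_map]; exact List.map_congr_left fun w _ => (md.tab_spec hs w).symm]
  exact hnd'.map md.inj

end CfsgLib.CentralCert
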