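/-
The number of normal forms of a polycyclic certificate.
-/
import Cfsg.Agent.CentralCert.Polycyclic

set_option autoImplicit false

namespace CfsgLib.CentralCert

theorem length_stdWords (p : ℕ) : ∀ (d k : ℕ), (stdWords p k d).length = p ^ d := by
  intro d
  induction d with
  | zero => intro k; rfl
  | succ d ih => intro k; simp [stdWords, List.length_flatMap, ih, pow_succ, Nat.mul_comm]

theorem mul_length_NF (D : Upper) {p : ℕ} (hNF : D.NF = stdWords p 0 D.W.length) {d m N : ℕ}
    (hd : D.W.length = d) (h : m * p ^ d = N) : m * D.NF.length = N := by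
  rw [hNF, length_stdWords, hd, h]

end CfsgLib.CentralCert
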