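/-
An upper bound for the multiplier of Sz(8).
-/
import Cfsg.Agent.CentralCert.Upper

set_option autoImplicit false
set_option maxRecDepth 100000

namespace CfsgLib.CentralCert.SzEight

/-- A part of a table. -/
def upperDataNF0 : List (List ℕ) := [[],
  [5],
  [4],
  [4, 5],
  [3],
  [3, 5],
  [3, 4],
  [3, 4, 5],
  [2],
  [2, 5],
  [2, 4],
  [2, 4, 5],
  [2, 3],
  [2, 3, 5],
  [2, 3, 4],
  [2, 3, 4, 5],
  [1],
  [1, 5],
  [1, 4],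
  [1, 4, 5],
  [1, 3],
  [1, 3, 5],
  [1, 3, 4],
  [1, 3, 4, 5],
  [1, 2],
  [1, 2, 5],
  [1, 2, 4],
  [1, 2, 4, 5],
  [1, 2, 3],
  [1, 2, 3, 5],
  [1, 2, 3, 4],
  [1, 2, 3, 4, 5]]

/-- A part of a table. -/
def upperDataNF1 : List (List ℕ) := [[0],
  [0, 5],
  [0, 4],
  [0, 4, 5],
  [0, 3],
  [0, 3, 5],
  [0, 3, 4],
  [0, 3, 4, 5],
  [0, 2],
  [0, 2, 5],
  [0, 2, 4],
  [0, 2, 4, 5],
  [0, 2, 3],
  [0, 2, 3, 5],
  [0, 2, 3, 4],
  [0, 2, 3, 4, 5],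
  [0, 1],
  [0, 1, 5],
  [0, 1, 4],
  [0, 1, 4, 5],
  [0, 1, 3],
  [0, 1, 3, 5],
  [0, 1, 3, 4],
  [0, 1, 3, 4, 5],
  [0, 1, 2],
  [0, 1, 2, 5],
  [0, 1, 2, 4],
  [0, 1, 2, 4, 5],
  [0, 1, 2, 3],
  [0, 1, 2, 3, 5],
  [0, 1, 2, 3, 4],
  [0, 1, 2, 3, 4, 5]]

/-- The certificate for the upper bound. -/
def upperData : Upper where
  W := [[0], [1], [2, 2, 1, 3, 2, 2, 3], [0, 0], [0, 1, 0, 1], [0, 3, 2, 3, 0, 2, 1]]
  rels := [([0, 0], [3]), ([1, 1], [3, 4, 5]), ([2, 2], [3, 4]), ([3, 3], []), ([4, 4], []), ([5, 5], []), ([1, 0], [0, 1, 5]), ([2, 0], [0, 2, 4, 5]), ([3, 0], [0, 3]), ([4, 0], [0, 4]), ([5, 0], [0, 5]), ([2, 1], [1, 2, 3]), ([3, 1], [1, 3]), ([4, 1], [1, 4]), ([5, 1], [1, 5]), ([3, 2], [2, 3]), ([4, 2], [2, 4]), ([5, 2], [2, 5]), ([4, 3], [3, 4]), ([5, 3], [3, 5]), ([5, 4], [4, 5])]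
  NF := (upperDataNF0 ++ upperDataNF1)
  cons := [([0], 0), ([1], 0), ([1], 1), ([1], 6), ([2], 0), ([2], 1), ([2], 2), ([2], 6), ([2], 7), ([2], 11), ([3], 1), ([3], 2), ([3], 6), ([3], 7), ([4], 0), ([4], 1)]
  fus := []
  K := [[(8, 1)], [(5, 1), (6, 2), (10, 1), (12, 1)], [(12, 1), (13, 1), (14, 1)], [(5, -1), (6, -2), (8, 1), (9, 1), (10, 1), (14, -1)], [(4, 1), (5, 1), (7, 2), (9, 1), (10, 1), (15, 1), (20, 1)], [(3, 1), (11, 2), (12, 1), (15, 1), (16, 1), (17, 1), (18, 2), (19, 2)], [(15, 1), (16, 1)], [(8, 1), (13, -1), (14, -1), (17, 1), (18, 1), (20, 1)], [(4, -1), (5, -1), (7, -2), (8, 1), (9, 1), (16, -1), (17, -1), (20, -1)], [(3, -1), (11, -2), (12, 1), (13, 1), (15, -1), (18, -2)], [(12, 2), (18, 1), (19, 1)], [(15, 2), (18, 1)], [(19, 1)], [(18, 1), (19, 1)], [(9, 2), (18, -1)], [(13, 2), (18, -1), (20, 1)]]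
  sec := [[(0, 1)], [(1, 1)], [(2, 1)], [(11, -1)], [(7, -1)], [(6, -1)]]
  C := [[(0, 1)], [(1, 1)], [(2, 1)], [(3, 2)], [(4, 2), (5, -2)], [(5, 2)], [(5, -1)], [(4, -1)], [], [], [], [(3, -1)], [], [], [], [], [], [], [], [], []]
  e := [[(10, 8), (16, 1)], [(10, 1)]]
  d := [2, 2]
  A := [[], [], [], [], [], [], [], [], [], [(0, 1), (1, 1)], [(1, 1)], [], [(1, 1)], [(0, 1), (1, 1)], [(0, 1)], [(0, 1)], [(0, 1)], [(1, 1)], [], [], []]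
  sels := [[], [], [], [(5, 3), (2, -1), (7, 1), (0, -3), (6, 1), (13, 1), (12, -5), (14, -3), (3, -2), (1, -2), (8, 4), (4, 4), (9, 4), (11, -2), (10, -2), (15, -1)], [(4, -11), (1, 6), (3, 5), (0, 6), (8, -10), (14, 8), (7, -1), (9, -9), (5, -9), (6, -1), (11, 6), (10, 4), (2, 4), (13, 1), (12, 13), (15, 2)], [(1, -3), (8, 5), (4, 5), (0, -4), (14, -4), (2, -1), (7, 1), (6, 1), (11, -3), (10, -2), (13, -1), (12, -5), (3, -2), (9, 4), (5, 4), (15, -1)], [], [], [(0, -1)], [(3, -21), (1, -21), (0, -40), (8, 51), (4, 51), (14, -41), (2, -11), (9, 41), (5, 41), (6, 11), (11, -31), (10, -25), (7, 10), (13, -5), (12, -52), (15, -10)], [], [], [(2, -1), (7, 1), (0, -4), (10, -3), (8, 5), (4, 5), (14, -4), (6, 1), (11, -3), (12, -5), (3, -2), (1, -2), (9, 4), (5, 4), (15, -1)], [(0, -39), (9, 39), (5, 39), (6, 11), (8, 49), (4, 49), (14, -39), (10, -24), (12, -49),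 (11, -30), (2, -10), (7, 10), (13, -5), (3, -20), (1, -20), (15, -10)], [(9, 29), (5, 29), (2, -8), (7, 7), (0, -29), (11, -22), (6, 8), (8, 36), (4, 36), (14, -29), (10, -18), (13, -3), (12, -37), (3, -14), (1, -14), (15, -7)], [(6, 9), (11, -25), (13, -3), (12, -41), (8, 40), (4, 40), (0, -32), (14, -32), (10, -20), (2, -8), (7, 8), (3, -16), (1, -16), (9, 32), (5, 32), (15, -8)], [(11, -24), (6, 8), (8, 40), (4, 40), (0, -32), (14, -32), (10, -20), (2, -8), (7, 8), (13, -4), (12, -40), (3, -16), (1, -16), (9, 32), (5, 32), (15, -8)], [(0, -1), (8, 1), (4, 1), (14, -1), (6, 1), (11, -1)], [(13, -1), (12, 1)], [(12, -1)], [(14, -3), (3, -2), (1, -2), (0, -2), (8, 4), (4, 4), (9, 4), (5, 4), (11, -2), (10, -2), (12, -6), (15, -1), (2, -2)]]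
  dsels := [[(8, -80), (4, -80), (0, 64), (14, 64), (6, -18), (11, 49), (10, 40), (2, 16), (7, -16), (13, 7), (12, 81), (3, 32), (1, 32), (9, -64), (5, -64), (15, 16)], [(8, -10), (4, -10), (0, 8), (14, 8), (6, -2), (11, 6), (10, 5), (2, 2), (7, -2), (13, 1), (12, 10), (3, 4), (1, 4), (9, -8), (5, -8), (15, 2)]]

end CfsgLib.CentralCert.SzEight
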