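/-
The tests for the multiplier of Sz(8).
-/
import Cfsg.Agent.CentralCert.MatModel
import Cfsg.Agent.CentralCert.SzEightUpperData
import Cfsg.Agent.CentralCert.SzEightLowerData
import Cfsg.Agent.CentralCert.FieldEight

set_option autoImplicit false
set_option maxRecDepth 100000
set_option maxHeartbeats 4000000

namespace CfsgLib.CentralCert.SzEight

open FEight

/-- The packed product. -/
def mul : ℕ → ℕ → ℕ := mmul 4 8 addX mulX

/-- The packed identity. -/
def one : ℕ := packN 8 (4 * 4) (fun k => if k / 4 = k % 4 then 1 else 0)

/-- The coded generators: two unipotent elements, a torus element and the Weyl element. -/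
def base : List ℕ := [35194036060745, 35202627308497, 140742857129991, 68853957120]

/-- The decoding of values. -/
def dec (c : ℕ) : ZMod 2 × ZMod 2 := ((c % 2 : ℕ), (c / 2 % 2 : ℕ))

theorem upper_ok : upperData.ok one mul base = true := by decide +kernel

theorem lower_tabs : lowerData.tabsOK one mul base lowerTabs = true := by decide +kernel

theorem lower_grp : lowerData.grpOK one mul lowerTabs = true := by decide +kernel

theorem lower_light : lowerData.lightOK dec = true := by decide +kernel

theorem lower_cos : lowerData.cosOK one mul base lowerTabs = true := by decide +kernel

theorem lower_wit : lowerData.witOK one mul base lowerTabs = true := by decide +kernel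

theorem lower_values : lowerData.values dec = [((1 : ZMod 2), (1 : ZMod 2)), ((1 : ZMod 2), (0 : ZMod 2))] := by
  decide +kernel

end CfsgLib.CentralCert.SzEight
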