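/-
The multiplier of Sz(8).
-/
import Cfsg.Agent.CentralCert.Assemble
import Cfsg.Agent.CentralCert.SzEightOK
import Cfsg.Agent.Suzuki.Group
import Cfsg.Agent.Suzuki.Ovoid
import Cfsg.Agent.Suzuki.LieModel

set_option autoImplicit false
set_option maxHeartbeats 1000000
set_option maxRecDepth 100000

namespace CfsgLib.CentralCert.SzEight

open Matrix FEight

universe u

variable {F : Type u} [Field F]

theorem mcode_digits [Fintype F] (hF : Fintype.card F = 8) {ω : F} (hω : ω ^ 3 + ω + 1 = 0)
    (M : Matrix (Fin 4) (Fin 4) F) (num : ℕ) (hn : packN 8 16 (digit 8 num) = num)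
    (h : ∀ i j : Fin 4, M i j = FEight.dec ω (digit 8 num (i.1 * 4 + j.1))) :
    (fieldCode hF hω).mcode M = num := by
  rw [← hn]
  show packN 8 16 _ = _
  refine packN_congr _ _ _ fun k hk => ?_
  have h1 : k / 4 < 4 := by omega
  have h2 : k % 4 < 4 := Nat.mod_lt _ (by norm_num)
  rw [dif_pos ⟨h1, h2⟩, h, fieldCode_code]
  · congr 1; dsimp; omega
  · exact Nat.mod_lt _ (by norm_num)

theorem root_pow_four {ω : F} (hω : ω ^ 3 + ω + 1 = 0) (h2 : (2 : F) = 0) : ω ^ 4 = ω ^ 2 + ω := by
  linear_combination ω * hω - (ω ^ 2 + ω) * h2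

theorem data_lengths : lowerData.T.length * lowerData.W.length = 29120 ∧ 455 * upperData.NF.length = 29120 := by
  refine ⟨?_, ?_⟩ <;> rfl

theorem model_ops [Fintype F] (hF : Fintype.card F = 8) {ω : F} (hω : ω ^ 3 + ω + 1 = 0) :
    (fieldCode hF hω).q = 8 ∧ (fieldCode hF hω).add = addX ∧ (fieldCode hF hω).mul = mulX :=
  ⟨rfl, rfl, rfl⟩

attribute [local irreducible] packN in
theorem main [Fintype F] (h : CfsgLib.Suzuki.IsSzField F 1) (hF : Fintype.card F = 8) :
    Cfsg.HasSchurMultiplier (CfsgLib.Suzuki.SzG F 1) (Multiplicative (ZMod 2 × ZMod 2)) := by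
  classical
  obtain ⟨ω, hω⟩ := exists_root (F := F) hF
  have h2 := two_eq_zero (F := F) hF
  have hω4 := root_pow_four hω h2
  have hω0 : ω ≠ 0 := fun h0 => by subst h0; simp at hω
  have hωinv : ω⁻¹ = ω ^ 2 + 1 := inv_eq_of_mul_eq_one_right (by linear_combination hω - h2)
  have hω5 : ω ^ 4 * ω = ω ^ 2 + ω + 1 := by linear_combination (ω ^ 2 - 1) * hω - ω ^ 2 * h2
  have hω6 : ω ^ 6 = ω ^ 2 + 1 := by linear_combination (ω ^ 3 - ω - 1) * hω + ω * h2
  have hω5' : ω ^ 5 = ω ^ 2 + ω + 1 := by linear_combination hω5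
  have hω5i : (ω ^ 4 * ω)⁻¹ = ω ^ 2 := by
    rw [hω5]; exact inv_eq_of_mul_eq_one_right (by linear_combination (ω + 1) * hω - (ω + 1) * h2)
  haveI : Finite (CfsgLib.Suzuki.SzG F 1) := inferInstance
  let φ : CfsgLib.Suzuki.SzG F 1 →* Matrix (Fin 4) (Fin 4) F :=
    { toFun := fun x => ((x.1 : SpecialLinearGroup (Fin 4) F) : Matrix (Fin 4) (Fin 4) F)
      map_one' := rfl
      map_mul' := fun _ _ => rfl }
  have hφ : Function.Injective φ := fun x y e => Subtype.ext (Subtype.ext e)
  let md := (fieldCode hF hω).model φ hφ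
  let gens : List (CfsgLib.Suzuki.SzG F 1) := [CfsgLib.Suzuki.uE h 1 0, CfsgLib.Suzuki.uE h ω 0,
    CfsgLib.Suzuki.dE h (Units.mk0 ω hω0), CfsgLib.Suzuki.wE h]
  let x : ℕ → CfsgLib.Suzuki.SzG F 1 := fun i => gens.getD i 1
  have hx : ∀ i, md.enc (x i) = base.getD i md.one := by
    intro i
    match i with
    | 0 =>
      show (fieldCode hF hω).mcode (CfsgLib.Suzuki.Umat 1 (1 : F) 0) = 35194036060745
      refine mcode_digits hF hω _ _ (by decide +kernel) fun i j => ?_
      fin_cases i <;> fin_cases j <;>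
        norm_num [CfsgLib.Suzuki.Umat, CfsgLib.Suzuki.zf, CfsgLib.Suzuki.sg_def, FEight.dec, digit]
    | 1 =>
      show (fieldCode hF hω).mcode (CfsgLib.Suzuki.Umat 1 ω 0) = 35202627308497
      refine mcode_digits hF hω _ _ (by decide +kernel) fun i j => ?_
      fin_cases i <;> fin_cases j <;>
        norm_num [CfsgLib.Suzuki.Umat, CfsgLib.Suzuki.zf, CfsgLib.Suzuki.sg_def, FEight.dec, digit] <;>
        first
          | linear_combination hω4
          | linear_combination hω5
          | linear_combination hω6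
    | 2 =>
      show (fieldCode hF hω).mcode (CfsgLib.Suzuki.Dmat 1 ω) = 140742857129991
      refine mcode_digits hF hω _ _ (by decide +kernel) fun i j => ?_
      fin_cases i <;> fin_cases j <;>
        norm_num [CfsgLib.Suzuki.Dmat, CfsgLib.Suzuki.sg_def, FEight.dec, digit] <;>
        first
          | linear_combination hω5
          | linear_combination hωinv
          | exact hω5i.trans (by ring)
          | (rw [← mul_inv, mul_comm, hω5i])
    | 3 =>
      show (fieldCode hF hω).mcode (CfsgLib.Suzuki.Wmat F) = 68853957120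
      refine mcode_digits hF hω _ _ (by decide +kernel) fun i j => ?_
      fin_cases i <;> fin_cases j <;> norm_num [CfsgLib.Suzuki.Wmat, FEight.dec, digit]
    | n + 4 =>
      show md.enc 1 = _
      rw [md.enc_one, List.getD_eq_default _ _ (by simp [base])]
  have hcard : Nat.card (CfsgLib.Suzuki.SzG F 1) = 29120 := by
    rw [CfsgLib.Suzuki.card_Sz h, Nat.card_eq_fintype_card, hF]
    norm_num
  obtain ⟨eq8, eadd, emul⟩ := model_ops hF hω
  have hone : md.one = one := by
    simp only [md, FieldCode.model, one]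
    rw [eq8]
  have hmul : md.mul = mul := by
    simp only [md, FieldCode.model]
    unfold mul
    rw [eq8, eadd, emul]
  refine ⟨Lower.exists_stem md lowerData lowerTabs hx dec (by rw [hone, hmul]; exact lower_tabs)
    (by rw [hone, hmul]; exact lower_grp) lower_light
    (by rw [hone, hmul]; exact lower_cos) (by rw [hone, hmul]; exact lower_wit)
    (hcard.symm ▸ data_lengths.1) (CfsgLib.Suzuki.commutator_eq_top h) ?_, fun Γ _ _ σ hσ => ?_⟩
  · rw [lower_values, eq_top_iff]
    intro a _
    have h11 : ((1 : ZMod 2), (1 : ZMod 2)) ∈ AddSubgroup.closure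
        {v | v ∈ [((1 : ZMod 2), (1 : ZMod 2)), ((1 : ZMod 2), (0 : ZMod 2))]} :=
      AddSubgroup.subset_closure (by simp)
    have h10 : ((1 : ZMod 2), (0 : ZMod 2)) ∈ AddSubgroup.closure
        {v | v ∈ [((1 : ZMod 2), (1 : ZMod 2)), ((1 : ZMod 2), (0 : ZMod 2))]} :=
      AddSubgroup.subset_closure (by simp)
    have hall : a = 0 ∨ a = (1, 1) ∨ a = (1, 0) ∨ a = (1, 1) + (1, 0) := by
      have key : ∀ a : ZMod 2 × ZMod 2, a = 0 ∨ a = (1, 1) ∨ a = (1, 0) ∨ a = (1, 1) + (1, 0) := by
        decide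
      exact key a
    rcases hall with rfl | rfl | rfl | rfl
    · exact zero_mem _
    · exact h11
    · exact h10
    · exact add_mem h11 h10
  · obtain ⟨E, hE, hEd, hgen⟩ := Upper.bound md upperData hx (by rw [hone, hmul]; exact upper_ok) hσ
    have hlen : upperData.e.length = 2 := rfl
    refine exists_surj_two hσ.2.1 E hE (hEd 0 (by rw [hlen]; norm_num)) (hEd 1 (by rw [hlen]; norm_num))
      fun z hz => pow_coprime_mem hσ (m := 455) (fun e he => ?_) (fun z hz => ?_) hz
    · rw [hcard] at he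
      have hle : e < 171 := by
        by_contra hc
        have h171 : 171 ^ 2 ≤ e ^ 2 := Nat.pow_le_pow_left (not_lt.mp hc) 2
        have := Nat.le_of_dvd (by norm_num) he
        omega
      have hall : ∀ e < 171, e ^ 2 ∣ 29120 → e.Coprime 455 := by decide +kernel
      exact hall e hle he
    · have := hgen z hz 455 (hcard.symm ▸ data_lengths.2)
      rwa [hlen] at this

end CfsgLib.CentralCert.SzEight
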